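import Mathlib

/-!
# Two computations with the group `GL₃(2)` acting on an abelian group
-/

set_option autoImplicit false
set_option linter.unusedSectionVars false
set_option linter.unusedVariables false
set_option synthInstance.maxSize 1024

namespace H88.Pyr

/-- coordinates for an elementary abelian group of order eight -/
abbrev X := ZMod 2 × ZMod 2 × ZMod 2

/-- the linear map with prescribed images of the three basis vectors -/
def L (p1 p2 p3 : X) (v : X) : X := v.1 • p1 + v.2.1 • p2 + v.2.2 • p3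

/-- the data of an action of `G` on `X` inducing the full linear group -/
structure Act (G : Type*) [Group G] (φ : G → X → X) : Prop where
  mul : ∀ g h v, φ (g * h) v = φ g (φ h v)
  one : ∀ v, φ 1 v = v
  add : ∀ g v w, φ g (v + w) = φ g v + φ g w
  all : ∀ p1 p2 p3 : X, (∀ v, L p1 p2 p3 v = 0 → v = 0) → ∃ g, ∀ v, φ g v = L p1 p2 p3 v

def mY : X → X := L (0,1,0) (1,1,0) (0,0,1)
def mG : X → X := L (1,0,0) (1,1,0) (0,0,1)
def mT1 : X → X := L (1,0,0) (0,1,0) (1,0,1)
def mT2 : X → X := L (1,0,0) (0,1,0) (0,1,1)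
def mT3 : X → X := L (1,0,0) (0,1,0) (1,1,1)
def mH : X → X := L (1,0,0) (0,0,1) (0,1,0)
def mS1 : X → X := L (1,0,0) (0,1,1) (0,0,1)
def mS2 : X → X := L (1,0,1) (0,1,0) (0,0,1)
def mS3 : X → X := L (1,0,1) (0,1,1) (0,0,1)
def mX : X → X := L (1,1,0) (1,1,1) (1,0,1)

theorem X_add_self (v : X) : v + v = 0 := by revert v; decide

section
variable {G M : Type*} [Group G] [AddCommGroup M] [DistribMulAction G M] {φ : G → X → X}

theorem rel22 (hφ : Act G φ) (hC : ∀ g h : G, (∀ v, φ g v = φ h v) → ∀ m : M, g • m = h • m)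
    (a b c d : G) (h : ∀ v, φ a (φ b v) = φ c (φ d v)) (m : M) : a • b • m = c • d • m := by
  rw [← mul_smul, ← mul_smul]
  exact hC _ _ (fun v => by rw [hφ.mul, hφ.mul, h]) m

theorem rel21 (hφ : Act G φ) (hC : ∀ g h : G, (∀ v, φ g v = φ h v) → ∀ m : M, g • m = h • m)
    (a b c : G) (h : ∀ v, φ a (φ b v) = φ c v) (m : M) : a • b • m = c • m := by
  rw [← mul_smul]
  exact hC _ _ (fun v => by rw [hφ.mul, h]) m

theorem rel20 (hφ : Act G φ) (hC : ∀ g h : G, (∀ v, φ g v = φ h v) → ∀ m : M, g • m = h • m)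
    (a b : G) (h : ∀ v, φ a (φ b v) = v) (m : M) : a • b • m = m := by
  rw [← mul_smul, hC (a * b) 1 (fun v => by rw [hφ.mul, h, hφ.one]) m, one_smul]

theorem rel23 (hφ : Act G φ) (hC : ∀ g h : G, (∀ v, φ g v = φ h v) → ∀ m : M, g • m = h • m)
    (a b c d e : G) (h : ∀ v, φ a (φ b v) = φ c (φ d (φ e v))) (m : M) :
    a • b • m = c • d • e • m := by
  rw [← mul_smul, ← mul_smul, ← mul_smul]
  exact hC _ _ (fun v => by rw [hφ.mul, hφ.mul, hφ.mul, h]) m

theorem rel30 (hφ : Act G φ) (hC : ∀ g h : G, (∀ v, φ g v = φ h v) → ∀ m : M, g • m = h • m)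
    (a b c : G) (h : ∀ v, φ a (φ b (φ c v)) = v) (m : M) : a • b • c • m = m := by
  rw [← mul_smul, ← mul_smul, hC (a * b * c) 1 (fun v => by rw [hφ.mul, hφ.mul, h, hφ.one]) m,
    one_smul]

/-- An equivariant anisotropic quadratic map to the natural module is additive. -/
theorem nonab_core (h2 : ∀ a : M, a + a = 0) (hφ : Act G φ)
    (hC : ∀ g h : G, (∀ v, φ g v = φ h v) → ∀ m : M, g • m = h • m)
    (q : M → X) (B : M → M → X) (hq : ∀ a b, q (a + b) = q a + q b + B a b)
    (hB : ∀ a b c, B (a + b) c = B a c + B b c) (hqg : ∀ (g : G) a, q (g • a) = φ g (q a))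
    (han : ∀ a, q a = 0 → a = 0) : ∀ a b, B a b = 0 := by
  have B0 : ∀ c, B 0 c = 0 := fun c => by
    have := hB 0 0 c
    rw [add_zero] at this
    exact left_eq_add.1 this
  have q0 : q 0 = 0 := by
    have := hq 0 0
    rwa [add_zero, X_add_self, B0, add_zero] at this
  have Bs : ∀ a b, B a b = B b a := fun a b => by
    have h1 := hq a b
    rw [add_comm a b, hq b a, add_comm (q b)] at h1
    exact (add_left_cancel h1).symm
  have hB' : ∀ a b c, B a (b + c) = B a b + B a c := fun a b c => by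
    rw [Bs, hB, Bs b, Bs c]
  have B0' : ∀ c, B c 0 = 0 := fun c => by rw [Bs, B0]
  have Baa : ∀ a, B a a = 0 := fun a => by
    have := hq a a
    rw [h2, q0, X_add_self, zero_add] at this
    exact this.symm
  have φ0 : ∀ g, φ g 0 = 0 := fun g => by
    have := hφ.add g 0 0
    rw [add_zero] at this
    exact left_eq_add.1 this
  have Bg : ∀ (g : G) a b, B (g • a) (g • b) = φ g (B a b) := fun g a b => by
    have h1 := hqg g (a + b)
    rw [smul_add, hq, hq, hφ.add, hφ.add, hqg, hqg] at h1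
    exact add_left_cancel h1
  have qeq : ∀ a b, q a = q b → B a b = 0 → a = b := fun a b h1 h3 => by
    have := han (a + b) (by rw [hq, h1, h3, X_add_self, add_zero])
    linear_combination (norm := abel) this - h2 b
  obtain ⟨y, hy⟩ : ∃ g, ∀ v, φ g v = mY v := hφ.all _ _ _ (by decide)
  obtain ⟨g, hg⟩ : ∃ g, ∀ v, φ g v = mG v := hφ.all _ _ _ (by decide)
  obtain ⟨t1, ht1⟩ : ∃ g, ∀ v, φ g v = mT1 v := hφ.all _ _ _ (by decide)
  obtain ⟨t2, ht2⟩ : ∃ g, ∀ v, φ g v = mT2 v := hφ.all _ _ _ (by decide)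
  obtain ⟨t3, ht3⟩ : ∃ g, ∀ v, φ g v = mT3 v := hφ.all _ _ _ (by decide)
  obtain ⟨s1, hs1⟩ : ∃ g, ∀ v, φ g v = mS1 v := hφ.all _ _ _ (by decide)
  obtain ⟨s2, hs2⟩ : ∃ g, ∀ v, φ g v = mS2 v := hφ.all _ _ _ (by decide)
  obtain ⟨s3, hs3⟩ : ∃ g, ∀ v, φ g v = mS3 v := hφ.all _ _ _ (by decide)
  have yyy : ∀ m : M, y • y • y • m = m := rel30 hφ hC _ _ _ (by simp only [hy]; decide)
  have t11 : ∀ m : M, t1 • t1 • m = m := rel20 hφ hC _ _ (by simp only [ht1]; decide)
  have t22 : ∀ m : M, t2 • t2 • m = m := rel20 hφ hC _ _ (by simp only [ht2]; decide)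
  have t33 : ∀ m : M, t3 • t3 • m = m := rel20 hφ hC _ _ (by simp only [ht3]; decide)
  have t12 : ∀ m : M, t1 • t2 • m = t3 • m := rel21 hφ hC _ _ _ (by simp only [ht1, ht2, ht3]; decide)
  have t13 : ∀ m : M, t1 • t3 • m = t2 • m := rel21 hφ hC _ _ _ (by simp only [ht1, ht2, ht3]; decide)
  have t21 : ∀ m : M, t2 • t1 • m = t3 • m := rel21 hφ hC _ _ _ (by simp only [ht1, ht2, ht3]; decide)
  have t31 : ∀ m : M, t3 • t1 • m = t2 • m := rel21 hφ hC _ _ _ (by simp only [ht1, ht2, ht3]; decide)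
  have yt1 : ∀ m : M, y • t1 • m = t2 • y • m :=
    rel22 hφ hC _ _ _ _ (by simp only [hy, ht1, ht2]; decide)
  have yt2 : ∀ m : M, y • t2 • m = t3 • y • m :=
    rel22 hφ hC _ _ _ _ (by simp only [hy, ht3, ht2]; decide)
  have yt3 : ∀ m : M, y • t3 • m = t1 • y • m :=
    rel22 hφ hC _ _ _ _ (by simp only [hy, ht1, ht3]; decide)
  have s11 : ∀ m : M, s1 • s1 • m = m := rel20 hφ hC _ _ (by simp only [hs1]; decide)
  have s22 : ∀ m : M, s2 • s2 • m = m := rel20 hφ hC _ _ (by simp only [hs2]; decide)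
  have s12 : ∀ m : M, s1 • s2 • m = s3 • m := rel21 hφ hC _ _ _ (by simp only [hs1, hs2, hs3]; decide)
  have s13 : ∀ m : M, s1 • s3 • m = s2 • m := rel21 hφ hC _ _ _ (by simp only [hs1, hs2, hs3]; decide)
  have s21 : ∀ m : M, s2 • s1 • m = s3 • m := rel21 hφ hC _ _ _ (by simp only [hs1, hs2, hs3]; decide)
  have ys1 : ∀ m : M, y • s1 • m = s2 • y • m :=
    rel22 hφ hC _ _ _ _ (by simp only [hy, hs1, hs2]; decide)
  have ys2 : ∀ m : M, y • s2 • m = s3 • y • m :=
    rel22 hφ hC _ _ _ _ (by simp only [hy, hs3, hs2]; decide)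
  have ys3 : ∀ m : M, y • s3 • m = s1 • y • m :=
    rel22 hφ hC _ _ _ _ (by simp only [hy, hs1, hs3]; decide)
  have yg : ∀ m : M, y • g • m = g • y • y • m :=
    rel23 hφ hC _ _ _ _ _ (by simp only [hy, hg]; decide)
  have gt1 : ∀ m : M, g • t1 • m = t1 • g • m :=
    rel22 hφ hC _ _ _ _ (by simp only [hg, ht1]; decide)
  -- fixed vectors of `y`
  have F1 : ∀ r : M, y • r = r → r ≠ 0 → q r = (0,0,1) := fun r hr h0 => by
    have h1 := hqg y r
    rw [hr, hy] at h1
    have h3 : q r ≠ 0 := fun h => h0 (han r h)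
    generalize q r = v at h1 h3
    revert v; decide
  have F1' : ∀ r : M, y • r = r → t3 • r = r + t1 • r + t2 • r := fun r hr => by
    have hs : r + t1 • r + t2 • r + t3 • r = 0 := by
      apply han
      have h1 := hqg y (r + t1 • r + t2 • r + t3 • r)
      have h3 := hqg t1 (r + t1 • r + t2 • r + t3 • r)
      rw [show y • (r + t1 • r + t2 • r + t3 • r) = r + t1 • r + t2 • r + t3 • r by
        simp only [smul_add, yt1, yt2, yt3, hr]; abel, hy] at h1
      rw [show t1 • (r + t1 • r + t2 • r + t3 • r) = r + t1 • r + t2 • r + t3 • r by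
        simp only [smul_add, t11, t12, t13]; abel, ht1] at h3
      generalize q (r + t1 • r + t2 • r + t3 • r) = v at h1 h3
      revert v; decide
    linear_combination (norm := abel) hs - h2 (r + t1 • r + t2 • r)
  have Fn : ∀ r : M, y • r = r → r ≠ 0 → r + t1 • r ≠ 0 := fun r hr h0 h => by
    have h1 : t1 • r = r := by linear_combination (norm := abel) h - h2 r
    have h3 := hqg t1 r
    rw [h1, ht1, F1 r hr h0] at h3
    revert h3; decide
  have Fy : ∀ r : M, y • r = r → y • (r + t1 • r) = r + t2 • r ∧ y • (r + t2 • r) = r + t3 • r ∧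
      y • (r + t3 • r) = r + t1 • r := fun r hr => by
    simp only [smul_add, yt1, yt2, yt3, hr, and_self]
  have Ft : ∀ r : M, y • r = r → t1 • (r + t1 • r) = r + t1 • r ∧ t2 • (r + t1 • r) = r + t1 • r ∧
      t3 • (r + t1 • r) = r + t1 • r ∧ t1 • (r + t2 • r) = r + t2 • r ∧
      t1 • (r + t3 • r) = r + t3 • r := fun r hr => by
    have h := F1' r hr
    simp only [smul_add, t11, t21, t31, t12, t13]
    refine ⟨add_comm _ _, ?_, ?_, ?_, ?_⟩
    · linear_combination (norm := abel) h + h2 (t2 • r)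
    · linear_combination (norm := abel) h + h2 (t2 • r)
    · linear_combination (norm := abel) h + h2 (t1 • r)
    · linear_combination (norm := abel) - h - h2 r
  have Fb : ∀ r : M, y • r = r → r ≠ 0 → B r (r + t1 • r) = (1,0,0) + q (r + t1 • r) :=
    fun r hr h0 => by
      rw [hB', Baa, hq, hqg, ht1, F1 r hr h0]
      generalize B r (t1 • r) = v
      revert v; decide
  have F2 : ∀ r r' : M, y • r = r → r ≠ 0 → y • r' = r' → r' ≠ 0 → r = r' := by
    intro r r' hr h0 hr' h0'
    by_contra hne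
    have hne' : r + r' ≠ 0 := fun h => hne (by linear_combination (norm := abel) h - h2 r')
    have hrr : y • (r + r') = r + r' := by rw [smul_add, hr, hr']
    have hu : B r r' = (0,0,1) := by
      have := F1 _ hrr hne'
      rw [hq, F1 r hr h0, F1 r' hr' h0', X_add_self, zero_add] at this
      exact this
    obtain ⟨y1, y2, y3⟩ := Fy r hr
    obtain ⟨y1', y2', y3'⟩ := Fy r' hr'
    obtain ⟨u1, u2, u3, u4, u5⟩ := Ft r hr
    obtain ⟨u1', u2', u3', u4', u5'⟩ := Ft r' hr'
    have b1 := Fb r hr h0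
    have b1' := Fb r' hr' h0'
    have e1 : t1 • r = r + (r + t1 • r) := by linear_combination (norm := abel) - h2 r
    have e2 : t2 • r = r + (r + t2 • r) := by linear_combination (norm := abel) - h2 r
    have e3 : t3 • r = r + (r + t3 • r) := by linear_combination (norm := abel) - h2 r
    have e1' : t1 • r' = r' + (r' + t1 • r') := by linear_combination (norm := abel) - h2 r'
    have sm' : (r' + t1 • r') + (r' + t2 • r') + (r' + t3 • r') = 0 := by
      linear_combination (norm := abel) F1' r' hr' + h2 r' + h2 r' + h2 (t1 • r') + h2 (t2 • r')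
    have n0 := Fn r hr h0
    have n0' := Fn r' hr' h0'
    have n0'' := Fn _ hrr hne'
    have en : r + r' + t1 • (r + r') = (r + t1 • r) + (r' + t1 • r') := by rw [smul_add]; abel
    rw [en] at n0''
    generalize r + t1 • r = n1 at *
    generalize r + t2 • r = n2 at *
    generalize r + t3 • r = n3 at *
    generalize r' + t1 • r' = m1 at *
    generalize r' + t2 • r' = m2 at *
    generalize r' + t3 • r' = m3 at *
    have c1 := Bg t1 r m1
    have c2 := Bg t2 r m1
    have c3 := Bg t3 r m1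
    have c4 := Bg t1 r m2
    have c5 := Bg t1 r m3
    rw [e1, u1', hB, ht1] at c1
    rw [e2, u2', hB, ht2] at c2
    rw [e3, u3', hB, ht3] at c3
    rw [e1, u4', hB, ht1] at c4
    rw [e1, u5', hB, ht1] at c5
    have d2 := Bg y r m1
    have d3 := Bg y r m2
    rw [hr, y1', hy] at d2
    rw [hr, y2', hy, d2] at d3
    have c6 : B n1 m1 + B n1 m2 + B n1 m3 = 0 := by rw [← hB', ← hB', sm', B0']
    rw [d2] at c4
    rw [d3] at c5
    have z : B n1 m1 = 0 ∧ B n2 m1 = 0 ∧ B n3 m1 = 0 := by
      have f1 := eq_sub_of_add_eq' c1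
      have f2 := eq_sub_of_add_eq' c2
      have f3 := eq_sub_of_add_eq' c3
      have f4 := eq_sub_of_add_eq' c4
      have f5 := eq_sub_of_add_eq' c5
      rw [f1, f4, f5] at c6
      rw [f1, f2, f3]
      generalize B r m1 = v at c6 ⊢
      revert v; decide
    have k := Bg t1 r r'
    rw [e1, e1', hB, hB', hB', hu, z.1, ht1] at k
    have q1 := hqg t1 n1
    have q2 := hqg y n1
    have q3 := hqg y n2
    have q1' := hqg t1 m1
    rw [u1, ht1] at q1
    rw [y1, hy] at q2
    rw [y2, hy, q2] at q3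
    rw [u1', ht1] at q1'
    have qn : q n1 ≠ 0 := fun h => n0 (han _ h)
    have qm : q m1 ≠ 0 := fun h => n0' (han _ h)
    have tri : q n1 = q m1 ∨ q n2 = q m1 ∨ q n3 = q m1 := by
      rw [q2, q3]
      generalize q n1 = v at q1 qn ⊢
      generalize q m1 = w at q1' qm ⊢
      revert v w; decide
    have bb2 := Bg y r n1
    have bb3 := Bg y r n2
    rw [hr, y1, hy, b1] at bb2
    rw [hr, y2, hy, bb2] at bb3
    have bc2 := Bg y r' m1
    have bc3 := Bg y r' m2
    rw [hr', y1', hy, b1'] at bc2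
    rw [hr', y2', hy, bc2] at bc3
    rcases tri with h | h | h
    · have := qeq _ _ h z.1
      exact n0'' (by rw [this, h2])
    · have h1 := qeq _ _ h z.2.1
      have h3 : m3 = n1 := by rw [← y2', ← y1', ← h1, y2, y3]
      rw [h3, ← h, q2] at bc3
      rw [← h1, bb2, Bs n1 r', bc3] at k
      generalize q n1 = v at k q1 qn
      revert v; decide
    · have h1 := qeq _ _ h z.2.2
      have h3 : m2 = n1 := by rw [← y1', ← h1, y3]
      rw [h3, ← h, q3] at bc2
      rw [← h1, bb3, Bs n1 r', bc2] at k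
      generalize q n1 = v at k q1 qn
      revert v; decide
  -- the element of order seven
  obtain ⟨x, hx, hxr⟩ : ∃ x : G, (∀ v, φ x v = mX v) ∧ ∀ m : M, x • m = t1 • g • y • s1 • m :=
    ⟨t1 * g * y * s1, by simp only [hφ.mul, hy, hg, hs1, ht1]; decide,
      fun m => by simp only [mul_smul]⟩
  have yx : ∀ m : M, y • x • m = x • x • y • m :=
    rel23 hφ hC _ _ _ _ _ (by simp only [hy, hx]; decide)
  have x7 : ∀ m : M, x • x • x • x • x • x • x • m = m := fun m => by
    simp only [← mul_smul]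
    rw [hC _ 1 (by simp only [hφ.mul, hx, hφ.one]; decide), one_smul]
  have Nx : ∀ m : M, m + x • m + x • x • m + x • x • x • m + x • x • x • x • m +
      x • x • x • x • x • m + x • x • x • x • x • x • m = 0 := fun m => by
    apply han
    have h1 := hqg x (m + x • m + x • x • m + x • x • x • m + x • x • x • x • m +
      x • x • x • x • x • m + x • x • x • x • x • x • m)
    rw [show x • (m + x • m + x • x • m + x • x • x • m + x • x • x • x • m +
      x • x • x • x • x • m + x • x • x • x • x • x • m) = m + x • m + x • x • m + x • x • x • m +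
      x • x • x • x • m + x • x • x • x • x • m + x • x • x • x • x • x • m by
        simp only [smul_add, x7]; abel, hx] at h1
    generalize q (m + x • m + x • x • m + x • x • x • m + x • x • x • x • m +
      x • x • x • x • x • m + x • x • x • x • x • x • m) = v at h1
    revert v; decide
  obtain ⟨S, hS, hSy⟩ : ∃ S : M → M, (∀ m, S m = m + y • m + y • y • m) ∧ ∀ m, y • S m = S m :=
    ⟨fun m => m + y • m + y • y • m, fun _ => rfl, fun m => by simp only [smul_add, yyy]; abel⟩
  have span : ∀ a : M, a = S a + x • S (x • x • x • x • x • x • a) +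
      x • x • S (x • x • x • x • x • a) + x • x • x • S (x • x • x • x • a) +
      x • x • x • x • S (x • x • x • a) + x • x • x • x • x • S (x • x • a) +
      x • x • x • x • x • x • S (x • a) := fun a => by
    simp only [hS, smul_add, yx, x7]
    linear_combination (norm := abel) - Nx (y • a) - Nx (y • y • a) - h2 a - h2 a - h2 a
  by_cases hex : ∃ r : M, y • r = r ∧ r ≠ 0
  swap
  · have hS0 : ∀ m, S m = 0 := fun m => by
      by_contra h
      exact hex ⟨_, hSy m, h⟩
    intro a b
    rw [span a]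
    simp only [hS0, smul_zero, add_zero, B0]
  obtain ⟨r, hr, h0⟩ := hex
  have hS0 : ∀ m : M, y • m = m → m = 0 ∨ m = r := fun m hm => by
    by_cases h : m = 0
    · exact Or.inl h
    · exact Or.inr (F2 _ _ hm h hr h0)
  have gr : g • r = r := (hS0 _ (by rw [yg, hr, hr])).resolve_left fun h =>
    h0 ((smul_eq_zero_iff_eq g).1 h)
  have qr := F1 r hr h0
  have sr : s1 • r = r := by
    rcases hS0 (r + s1 • r + s2 • r + s3 • r) (by simp only [smul_add, ys1, ys2, ys3, hr]; abel)
      with h | h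
    · by_contra hne
      have hm : r + s1 • r ≠ 0 := fun h => hne (by linear_combination (norm := abel) h - h2 r)
      have a1 : s1 • (r + s1 • r) = r + s1 • r := by rw [smul_add, s11, add_comm]
      have a2 : s2 • (r + s1 • r) = r + s1 • r := by
        rw [smul_add, s21]
        linear_combination (norm := abel) h - h2 r - h2 (s1 • r)
      have a3 : y • (r + s1 • r) = r + s2 • r := by rw [smul_add, ys1, hr]
      have a4 : y • (r + s2 • r) = (r + s1 • r) + (r + s2 • r) := by
        rw [smul_add, ys2, hr]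
        linear_combination (norm := abel) h - h2 r - h2 (s1 • r) - h2 (s2 • r)
      have e1 : s1 • r = r + (r + s1 • r) := by linear_combination (norm := abel) - h2 r
      have e2 : s2 • r = r + (r + s2 • r) := by linear_combination (norm := abel) - h2 r
      generalize r + s1 • r = m1 at *
      generalize r + s2 • r = m2 at *
      have q1 : q m1 = (0,0,1) := by
        have b1 := hqg s1 m1
        have b2 := hqg s2 m1
        rw [a1, hs1] at b1
        rw [a2, hs2] at b2
        have b3 : q m1 ≠ 0 := fun h => hm (han _ h)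
        generalize q m1 = v at *
        revert v; decide
      have q2 := hqg y m1
      have q3 := hqg y m2
      rw [a3, hy, q1] at q2
      rw [a4, hy, hq, q1, q2] at q3
      have q4 := hqg s1 r
      rw [e1, hq, hs1, qr, q1] at q4
      have q5 := Bg s2 r m1
      rw [e2, a2, hB, hs2, Bs m2] at q5
      generalize B m1 m2 = v at *
      generalize B r m1 = w at *
      revert v w; decide
    · have a1 : s1 • (r + s1 • r + s2 • r + s3 • r) = r + s1 • r + s2 • r + s3 • r := by
        simp only [smul_add, s11, s12, s13]; abel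
      rwa [h] at a1
  have xr : x • r = t1 • r := by rw [hxr, sr, hr, gr]
  have B1 : B r (x • r) = 0 := by
    have b1 := Fb r hr h0
    have b2 := hqg g (r + t1 • r)
    have b3 := hqg t1 (r + t1 • r)
    have b4 : q (r + t1 • r) ≠ 0 := fun h => Fn r hr h0 (han _ h)
    rw [show g • (r + t1 • r) = r + t1 • r by rw [smul_add, gt1, gr], hg] at b2
    rw [(Ft r hr).1, ht1] at b3
    rw [hB', Baa, zero_add] at b1
    rw [xr, b1]
    generalize q (r + t1 • r) = v at b2 b3 b4 ⊢
    clear b1
    revert v; decide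
  have B2 : B r (x • x • r) = 0 := by
    have := Bg y r (x • r)
    rwa [B1, φ0, yx, hr] at this
  have B4 : B r (x • x • x • x • r) = 0 := by
    have := Bg y r (x • x • r)
    rwa [B2, φ0, yx, yx, hr] at this
  have Bx : ∀ a b : M, B a b = 0 → B (x • a) (x • b) = 0 := fun a b h => by rw [Bg, h, φ0]
  have B6 : B r (x • x • x • x • x • x • r) = 0 := by
    have := Bx _ _ (Bx _ _ (Bx _ _ (Bx _ _ (Bx _ _ (Bx _ _ B1)))))
    rwa [x7, Bs] at this
  have B5 : B r (x • x • x • x • x • r) = 0 := by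
    have := Bx _ _ (Bx _ _ (Bx _ _ (Bx _ _ (Bx _ _ B2))))
    rwa [x7, Bs] at this
  have B3 : B r (x • x • x • r) = 0 := by
    have := Bx _ _ (Bx _ _ (Bx _ _ B4))
    rwa [x7, Bs] at this
  have Br : ∀ a, B r a = 0 := fun a => by
    rw [span a]
    simp only [hB']
    rcases hS0 _ (hSy a) with h1 | h1 <;>
    rcases hS0 _ (hSy (x • a)) with h3 | h3 <;>
    rcases hS0 _ (hSy (x • x • a)) with h4 | h4 <;>
    rcases hS0 _ (hSy (x • x • x • a)) with h5 | h5 <;>
    rcases hS0 _ (hSy (x • x • x • x • a)) with h6 | h6 <;>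
    rcases hS0 _ (hSy (x • x • x • x • x • a)) with h7 | h7 <;>
    rcases hS0 _ (hSy (x • x • x • x • x • x • a)) with h8 | h8 <;>
    simp only [h1, h3, h4, h5, h6, h7, h8, smul_zero, B0', Baa, B1, B2, B3, B4, B5, B6, add_zero]
  have BS : ∀ m a, B (S m) a = 0 := fun m a => by
    rcases hS0 _ (hSy m) with h | h
    · rw [h, B0]
    · rw [h, Br]
  have Bxa : ∀ m : M, (∀ a, B m a = 0) → ∀ a, B (x • m) a = 0 := fun m h a => by
    rw [← smul_inv_smul x a]
    exact Bx _ _ (h _)
  intro a b
  rw [span a]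
  simp only [hB]
  rw [BS, Bxa _ (BS _), Bxa _ (Bxa _ (BS _)), Bxa _ (Bxa _ (Bxa _ (BS _))),
    Bxa _ (Bxa _ (Bxa _ (Bxa _ (BS _)))), Bxa _ (Bxa _ (Bxa _ (Bxa _ (Bxa _ (BS _))))),
    Bxa _ (Bxa _ (Bxa _ (Bxa _ (Bxa _ (Bxa _ (BS _))))))]
  simp only [add_zero]

end

end H88.Pyr
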