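import Mathlib
import Cfsg.Agent.Lib.Pyr.Add

/-!
# `GL₃(2)` acting on an abelian 2-group of rank three
-/

set_option autoImplicit false
set_option linter.unusedSectionVars false
set_option linter.unusedVariables false
set_option synthInstance.maxSize 1024

namespace H88.Pyr

variable {G A : Type*} [Group G] [AddCommGroup A] [DistribMulAction G A] {φ : G → X → X}

theorem ab_core (hφ : Act G φ)
    (hC : ∀ g h : G, (∀ v, φ g v = φ h v) → ∀ m : A, g • m = h • m)
    (ι : X → A) (hιa : ∀ v w, ι (v + w) = ι v + ι w) (hιi : ∀ v, ι v = 0 → v = 0)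
    (hιg : ∀ (g : G) v, g • ι v = ι (φ g v)) (hΩ : ∀ a : A, a + a = 0 → ∃ v, a = ι v)
    (hA : ∃ e : ℕ, ∀ a : A, 2 ^ e • a = 0) {y g t1 t2 : G} (hy : ∀ v, φ y v = mY v)
    (hg : ∀ v, φ g v = mG v) (ht1 : ∀ v, φ t1 v = mT1 v) (ht2 : ∀ v, φ t2 v = mT2 v) :
    (∀ a : A, y • a = a → g • a = -a) ∧ ∀ a : A, g • t2 • (a + t1 • a) = a + t1 • a := by
  classical
  have ι0 : ι 0 = 0 := by
    have := hιa 0 0
    rw [add_zero] at this
    exact left_eq_add.1 this
  have ι2 : ∀ v, ι v + ι v = 0 := fun v => by rw [← hιa, X_add_self, ι0]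
  have ιinj : ∀ v w, ι v = ι w → v = w := fun v w h => by
    have := hιi (v + w) (by rw [hιa, h, ι2])
    linear_combination (norm := abel) this - X_add_self w
  have inv : ∀ (e : ℕ) (a : A), 2 ^ e • a = 0 → a ≠ 0 → ∃ (j : ℕ) (v : X), v ≠ 0 ∧ 2 ^ j • a = ι v := by
    intro e
    induction e with
    | zero => intro a h h0; exact absurd (by simpa using h) h0
    | succ e ih =>
      intro a h h0
      by_cases h1 : 2 ^ e • a = 0
      · exact ih a h1 h0
      · obtain ⟨v, hv⟩ := hΩ (2 ^ e • a) (by rw [← h, pow_succ, mul_two, add_smul])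
        exact ⟨e, v, fun h3 => h1 (by rw [hv, h3, ι0]), hv⟩
  have inv' : ∀ a : A, a ≠ 0 → ∃ (j : ℕ) (v : X), v ≠ 0 ∧ 2 ^ j • a = ι v ∧
      ∀ k : G, k • a = a → φ k v = v := fun a h0 => by
    obtain ⟨e, he⟩ := hA
    obtain ⟨j, v, h1, h2⟩ := inv e a (he a) h0
    refine ⟨j, v, h1, h2, fun k hk => ιinj _ _ ?_⟩
    rw [← hιg, ← h2, smul_comm, hk]
  obtain ⟨t3, ht3⟩ : ∃ g, ∀ v, φ g v = mT3 v := hφ.all _ _ _ (by decide)
  obtain ⟨h, hh⟩ : ∃ g, ∀ v, φ g v = mH v := hφ.all _ _ _ (by decide)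
  obtain ⟨x, hx⟩ : ∃ g, ∀ v, φ g v = mX v := hφ.all _ _ _ (by decide)
  have yyy : ∀ m : A, y • y • y • m = m := rel30 hφ hC _ _ _ (by simp only [hy]; decide)
  have t11 : ∀ m : A, t1 • t1 • m = m := rel20 hφ hC _ _ (by simp only [ht1]; decide)
  have t12 : ∀ m : A, t1 • t2 • m = t3 • m := rel21 hφ hC _ _ _ (by simp only [ht1, ht2, ht3]; decide)
  have t13 : ∀ m : A, t1 • t3 • m = t2 • m := rel21 hφ hC _ _ _ (by simp only [ht1, ht2, ht3]; decide)
  have t21 : ∀ m : A, t2 • t1 • m = t3 • m := rel21 hφ hC _ _ _ (by simp only [ht1, ht2, ht3]; decide)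
  have yt1 : ∀ m : A, y • t1 • m = t2 • y • m :=
    rel22 hφ hC _ _ _ _ (by simp only [hy, ht1, ht2]; decide)
  have yt2 : ∀ m : A, y • t2 • m = t3 • y • m :=
    rel22 hφ hC _ _ _ _ (by simp only [hy, ht3, ht2]; decide)
  have yt3 : ∀ m : A, y • t3 • m = t1 • y • m :=
    rel22 hφ hC _ _ _ _ (by simp only [hy, ht1, ht3]; decide)
  have yg : ∀ m : A, y • g • m = g • y • y • m :=
    rel23 hφ hC _ _ _ _ _ (by simp only [hy, hg]; decide)
  have gt1 : ∀ m : A, g • t1 • m = t1 • g • m :=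
    rel22 hφ hC _ _ _ _ (by simp only [hg, ht1]; decide)
  have hgt : ∀ m : A, h • g • m = t1 • h • m :=
    rel22 hφ hC _ _ _ _ (by simp only [hg, ht1, hh]; decide)
  -- the exponent
  obtain ⟨f, hf, hf'⟩ : ∃ f : ℕ, (∀ a : A, 2 ^ (f + 1) • a = 0) ∧ ∃ a : A, 2 ^ f • a ≠ 0 := by
    have h1 := Nat.find_spec hA
    have h2 : Nat.find hA ≠ 0 := fun h0 => by
      have := h1 (ι (0,0,1))
      rw [h0, pow_zero, one_smul] at this
      exact absurd (hιi _ this) (by decide)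
    obtain ⟨f, hf⟩ := Nat.exists_eq_succ_of_ne_zero h2
    refine ⟨f, by rwa [hf] at h1, ?_⟩
    have := Nat.find_min hA (show f < Nat.find hA by omega)
    push Not at this
    exact this
  obtain ⟨a0, ha0⟩ : ∃ a : A, 2 ^ f • a = ι (0,0,1) := by
    obtain ⟨a, ha⟩ := hf'
    obtain ⟨v, hv⟩ := hΩ (2 ^ f • a) (by rw [← hf a, pow_succ, mul_two, add_smul])
    have hv0 : v ≠ 0 := fun h3 => ha (by rw [hv, h3, ι0])
    have step : ∀ w, (∃ a : A, 2 ^ f • a = ι w) → ∃ a : A, 2 ^ f • a = ι (mX w) := by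
      rintro w ⟨b, hb⟩
      exact ⟨x • b, by rw [smul_comm, hb, hιg, hx]⟩
    have p0 : ∃ a : A, 2 ^ f • a = ι v := ⟨a, hv⟩
    have : v = (0,0,1) ∨ mX v = (0,0,1) ∨ mX (mX v) = (0,0,1) ∨ mX (mX (mX v)) = (0,0,1) ∨
        mX (mX (mX (mX v))) = (0,0,1) ∨ mX (mX (mX (mX (mX v)))) = (0,0,1) ∨
        mX (mX (mX (mX (mX (mX v))))) = (0,0,1) := by
      clear hv step p0
      revert v; decide
    rcases this with e | e | e | e | e | e | e <;> rw [← e]
    · exact p0
    · exact step _ p0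
    · exact step _ (step _ p0)
    · exact step _ (step _ (step _ p0))
    · exact step _ (step _ (step _ (step _ p0)))
    · exact step _ (step _ (step _ (step _ (step _ p0))))
    · exact step _ (step _ (step _ (step _ (step _ (step _ p0)))))
  obtain ⟨r, hr, hru⟩ : ∃ r : A, y • r = r ∧ 2 ^ f • r = ι (0,0,1) := by
    refine ⟨a0 + y • a0 + y • y • a0, by simp only [smul_add, yyy]; abel, ?_⟩
    rw [smul_add, smul_add, smul_comm _ y, smul_comm _ y, smul_comm _ y, ha0, hιg, hιg, hy, hy,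
      ← hιa, ← hιa]
    congr 1
  have hs : r + t1 • r + t2 • r + t3 • r = 0 := by
    by_contra h0
    obtain ⟨j, v, h1, -, h3⟩ := inv' _ h0
    have a1 := h3 y (by simp only [smul_add, yt1, yt2, yt3, hr]; abel)
    have a2 := h3 t1 (by simp only [smul_add, t11, t12, t13]; abel)
    rw [hy] at a1
    rw [ht1] at a2
    clear h3
    revert v; decide
  -- generation
  have gen : ∀ K : AddSubgroup A, r ∈ K → t1 • r ∈ K → t2 • r ∈ K → ∀ a, a ∈ K := by
    intro K k0 k1 k2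
    have base : ∀ v, ∃ d ∈ K, 2 ^ f • d = ι v := by
      have ad : ∀ v w, (∃ d ∈ K, 2 ^ f • d = ι v) → (∃ d ∈ K, 2 ^ f • d = ι w) →
          ∃ d ∈ K, 2 ^ f • d = ι (v + w) := by
        rintro v w ⟨d, hd, e⟩ ⟨d', hd', e'⟩
        exact ⟨d + d', K.add_mem hd hd', by rw [smul_add, e, e', hιa]⟩
      have p0 : ∃ d ∈ K, 2 ^ f • d = ι (0,0,1) := ⟨r, k0, hru⟩
      have p1 : ∃ d ∈ K, 2 ^ f • d = ι (mT1 (0,0,1)) :=
        ⟨t1 • r, k1, by rw [smul_comm, hru, hιg, ht1]⟩
      have p2 : ∃ d ∈ K, 2 ^ f • d = ι (mT2 (0,0,1)) :=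
        ⟨t2 • r, k2, by rw [smul_comm, hru, hιg, ht2]⟩
      intro v
      have : v = (0,0,1) + (0,0,1) ∨ v = (0,0,1) ∨ v = mT1 (0,0,1) ∨ v = mT2 (0,0,1) ∨
          v = (0,0,1) + mT1 (0,0,1) ∨ v = (0,0,1) + mT2 (0,0,1) ∨
          v = mT1 (0,0,1) + mT2 (0,0,1) ∨ v = (0,0,1) + mT1 (0,0,1) + mT2 (0,0,1) := by
        revert v; decide
      rcases this with e | e | e | e | e | e | e | e <;> rw [e]
      · exact ad _ _ p0 p0
      · exact p0
      · exact p1
      · exact p2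
      · exact ad _ _ p0 p1
      · exact ad _ _ p0 p2
      · exact ad _ _ p1 p2
      · exact ad _ _ (ad _ _ p0 p1) p2
    have ind : ∀ j, j ≤ f + 1 → ∀ a : A, 2 ^ j • a = 0 → a ∈ K := by
      intro j
      induction j with
      | zero =>
        intro _ a ha
        rw [pow_zero, one_smul] at ha
        exact ha ▸ K.zero_mem
      | succ j ih =>
        intro hj a ha
        obtain ⟨v, hv⟩ := hΩ (2 ^ j • a) (by rw [← ha, pow_succ, mul_two, add_smul])
        obtain ⟨d, hd, e⟩ := base v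
        have h1 := ih (by omega) (a - 2 ^ (f - j) • d) (by
          rw [smul_sub, smul_smul, ← pow_add, show j + (f - j) = f by omega, e, hv, sub_self])
        simpa using K.add_mem h1 (K.nsmul_mem hd (2 ^ (f - j)))
    exact fun a => ind (f + 1) le_rfl a (hf a)
  have hN : ∀ a : A, ∃ k : ℤ, a + t1 • a = k • (r + t1 • r) := by
    let K : AddSubgroup A :=
      { carrier := {a | ∃ k : ℤ, a + t1 • a = k • (r + t1 • r)}
        zero_mem' := ⟨0, by simp⟩
        add_mem' := by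
          rintro a b ⟨k, hk⟩ ⟨l, hl⟩
          exact ⟨k + l, by rw [smul_add, add_smul, ← hk, ← hl]; abel⟩
        neg_mem' := by
          rintro a ⟨k, hk⟩
          exact ⟨-k, by rw [smul_neg, neg_smul, ← hk]; abel⟩ }
    refine gen K ⟨1, by simp⟩ ⟨1, by rw [t11, one_smul, add_comm]⟩ ⟨-1, ?_⟩
    rw [t12, neg_one_smul]
    linear_combination (norm := abel) hs
  have hn : 2 ^ f • (r + t1 • r) = ι (1,0,0) := by
    rw [smul_add, smul_comm _ t1, hru, hιg, ht1, ← hιa]
    congr 1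
  have ord : addOrderOf (r + t1 • r) = 2 ^ (f + 1) :=
    addOrderOf_eq_prime_pow (fun h0 => absurd (hιi _ (hn ▸ h0)) (by decide)) (hf _)
  have uniq : ∀ (m : ℤ) (w : X), m • (r + t1 • r) = ι w → w = 0 ∨ w = (1,0,0) := by
    intro m w hm
    have h1 : (2 * m) • (r + t1 • r) = 0 := by rw [two_mul, add_smul, hm, ι2]
    have h2 := addOrderOf_dvd_iff_zsmul_eq_zero.2 h1
    rw [ord] at h2
    push_cast at h2
    rw [pow_succ'] at h2
    obtain ⟨c, hc⟩ := Int.dvd_of_mul_dvd_mul_left (by norm_num) h2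
    have h3 : m • (r + t1 • r) = c • ι (1,0,0) := by
      rw [hc, mul_comm, mul_smul, ← hn]
      congr 1
      rw [← natCast_zsmul]
      push_cast
      rfl
    rw [h3] at hm
    rcases Int.even_or_odd' c with ⟨d, e | e⟩
    · left
      apply hιi
      rw [← hm, e, mul_comm, mul_smul, two_smul, ι2, smul_zero]
    · right
      apply ιinj
      rw [← hm, e, add_smul, mul_comm, mul_smul, two_smul, ι2, smul_zero, zero_add, one_smul]
  have one : ∀ a : A, y • a = a → g • a = -a := fun a ha => by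
    by_contra h0
    have hb : a + g • a ≠ 0 := fun h1 => h0 (by linear_combination (norm := abel) h1)
    obtain ⟨j, v, h1, h2, h3⟩ := inv' _ hb
    have a1 := h3 y (by rw [smul_add, yg, ha, ha])
    rw [hy] at a1
    obtain ⟨k, hk⟩ := hN (h • a)
    have a2 : ((2 ^ j : ℕ) * k : ℤ) • (r + t1 • r) = ι (mH v) := by
      rw [mul_smul, ← hk, ← hgt, ← smul_add, natCast_zsmul, smul_comm, h2, hιg, hh]
    have a3 := uniq _ _ a2
    clear a2 h2 h3
    revert v; decide
  refine ⟨one, fun a => ?_⟩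
  obtain ⟨k, hk⟩ := hN a
  have : g • t2 • (r + t1 • r) = r + t1 • r := by
    rw [smul_add, t21, show t2 • r + t3 • r = -(r + t1 • r) by
      linear_combination (norm := abel) hs, smul_neg, smul_add, gt1, one r hr, smul_neg]
    abel
  rw [hk, smul_comm t2, smul_comm g, this]

end H88.Pyr
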