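import Mathlib
import Cfsg.Agent.Lib.LocStruct.SylowIn

/-!
# Groups acting doubly transitively on pairwise commuting involutions: reduction step
-/

set_option autoImplicit false
set_option linter.unusedSectionVars false
set_option linter.unusedVariables false
set_option linter.style.haveILetI false

namespace H88.Pyr

open H69

universe u

variable {G : Type u} [Group G]

/-- involutions -/
def IsInv (a : G) : Prop := a ≠ 1 ∧ a * a = 1

theorem isInv_iff {a : G} : IsInv a ↔ orderOf a = 2 := by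
  rw [orderOf_eq_prime_iff, pow_two, IsInv, and_comm]

theorem IsInv.conj {a : G} (h : IsInv a) (g : G) : IsInv (g * a * g⁻¹) :=
  ⟨fun e => h.1 (by simpa using e), by
    calc g * a * g⁻¹ * (g * a * g⁻¹) = g * (a * a) * g⁻¹ := by group
      _ = 1 := by rw [h.2]; group⟩

theorem inv_eq_of_sq {a : G} (h : a * a = 1) : a⁻¹ = a := inv_eq_of_mul_eq_one_right h

theorem eq_one_of_odd {K : Subgroup G} (hK : Odd (Nat.card K)) {a : G} (ha : a ∈ K)
    (h : a * a = 1) : a = 1 := by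
  obtain ⟨m, hm⟩ := hK
  have h1 : a ^ Nat.card K = 1 :=
    congrArg Subtype.val (pow_card_eq_one' (x := (⟨a, ha⟩ : K)))
  rwa [hm, pow_succ, pow_mul, pow_two, h, one_pow, one_mul] at h1

theorem lift_inv (K : Subgroup G) [K.Normal] (hK : Odd (Nat.card K)) (z : G ⧸ K)
    (hz : z * z = 1) : ∃ a : G, a * a = 1 ∧ (a : G ⧸ K) = z := by
  obtain ⟨a, rfl⟩ := QuotientGroup.mk_surjective z
  have ha : a * a ∈ K := (QuotientGroup.eq_one_iff _).1 hz
  have h1 : (a * a) ^ Nat.card K = 1 :=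
    congrArg Subtype.val (pow_card_eq_one' (x := (⟨a * a, ha⟩ : K)))
  obtain ⟨m, hm⟩ := hK
  refine ⟨a ^ Nat.card K, by rw [← (Commute.refl a).mul_pow, h1], ?_⟩
  rw [QuotientGroup.mk_pow, hm, pow_succ, pow_mul, pow_two, hz, one_pow, one_mul]

theorem IsInv.mk {K : Subgroup G} [K.Normal] (hK : Odd (Nat.card K)) {a : G} (h : IsInv a) :
    IsInv (a : G ⧸ K) :=
  ⟨fun e => h.1 (eq_one_of_odd hK ((QuotientGroup.eq_one_iff _).1 e) h.2), by
    rw [← QuotientGroup.mk_mul, h.2, QuotientGroup.mk_one]⟩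

theorem IsInv.lift {K : Subgroup G} [K.Normal] (hK : Odd (Nat.card K)) {z : G ⧸ K}
    (h : IsInv z) : ∃ a : G, IsInv a ∧ (a : G ⧸ K) = z := by
  obtain ⟨a, h1, h2⟩ := lift_inv K hK z h.2
  exact ⟨a, ⟨fun e => h.1 (by rw [← h2, e, QuotientGroup.mk_one]), h1⟩, h2⟩

theorem eq_of_mk_eq {K : Subgroup G} [K.Normal] (hK : Odd (Nat.card K)) {a b : G}
    (ha : a * a = 1) (hb : b * b = 1) (hab : a * b = b * a) (e : (a : G ⧸ K) = b) : a = b := by
  have h1 := QuotientGroup.eq.1 e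
  rw [inv_eq_of_sq ha] at h1
  have h2 := eq_one_of_odd hK h1 (by
    calc a * b * (a * b) = a * (b * a) * b := by group
      _ = a * a * (b * b) := by rw [← hab]; group
      _ = 1 := by rw [ha, hb, one_mul])
  rw [← inv_eq_of_sq ha]
  exact inv_eq_of_mul_eq_one_right h2

/-- the hypothesis to be refuted -/
structure D2 (G : Type u) [Group G] : Prop where
  comm : ∀ a b : G, a * a = 1 → b * b = 1 → a * b = b * a
  two : ∃ a b : G, IsInv a ∧ IsInv b ∧ a ≠ b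
  tr : ∀ a b c d : G, IsInv a → IsInv b → a ≠ b → IsInv c → IsInv d → c ≠ d →
    ∃ g : G, g * a * g⁻¹ = c ∧ g * b * g⁻¹ = d

/-- the joint centralizer of two elements -/
def fix2 (v w : G) : Subgroup G where
  carrier := {g | g * v * g⁻¹ = v ∧ g * w * g⁻¹ = w}
  one_mem' := by simp
  mul_mem' := fun {a b} ha hb => ⟨by
      calc a * b * v * (a * b)⁻¹ = a * (b * v * b⁻¹) * a⁻¹ := by group
        _ = v := by rw [hb.1, ha.1], by
      calc a * b * w * (a * b)⁻¹ = a * (b * w * b⁻¹) * a⁻¹ := by group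
        _ = w := by rw [hb.2, ha.2]⟩
  inv_mem' := fun {a} ha => ⟨by
      conv_lhs => rw [← ha.1]
      group, by
      conv_lhs => rw [← ha.2]
      group⟩

theorem mem_fix2 {v w g : G} : g ∈ fix2 v w ↔ g * v * g⁻¹ = v ∧ g * w * g⁻¹ = w := Iff.rfl

theorem comm_quot (hc : ∀ a b : G, a * a = 1 → b * b = 1 → a * b = b * a) (K : Subgroup G)
    [K.Normal] (hK : Odd (Nat.card K)) (a b : G ⧸ K) (ha : a * a = 1) (hb : b * b = 1) :
    a * b = b * a := by
  obtain ⟨a, ha', rfl⟩ := lift_inv K hK a ha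
  obtain ⟨b, hb', rfl⟩ := lift_inv K hK b hb
  rw [← QuotientGroup.mk_mul, hc a b ha' hb', QuotientGroup.mk_mul]

theorem D2.quot (h : D2 G) (K : Subgroup G) [K.Normal] (hK : Odd (Nat.card K)) : D2 (G ⧸ K) where
  comm := comm_quot h.comm K hK
  two := by
    obtain ⟨a, b, ha, hb, hab⟩ := h.two
    exact ⟨a, b, ha.mk hK, hb.mk hK, fun e => hab (eq_of_mk_eq hK ha.2 hb.2 (h.comm _ _ ha.2 hb.2) e)⟩
  tr a b c d ha hb hab hc hd hcd := by
    obtain ⟨a, ha', rfl⟩ := ha.lift hK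
    obtain ⟨b, hb', rfl⟩ := hb.lift hK
    obtain ⟨c, hc', rfl⟩ := hc.lift hK
    obtain ⟨d, hd', rfl⟩ := hd.lift hK
    obtain ⟨g, h1, h2⟩ := h.tr a b c d ha' hb' (fun e => hab (by rw [e])) hc' hd'
      (fun e => hcd (by rw [e]))
    exact ⟨g, by rw [← h1]; rfl, by rw [← h2]; rfl⟩

theorem cent_of_norm (hc : ∀ a b : G, a * a = 1 → b * b = 1 → a * b = b * a) {R : Subgroup G}
    (hR : Odd (Nat.card R)) {a : G} (ha : a * a = 1) (haN : a ∈ 𝐍(R)) {x : G} (hx : x ∈ R) :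
    x * a * x⁻¹ = a := by
  have h1 : a * x * a⁻¹ * x⁻¹ ∈ R :=
    R.mul_mem ((Subgroup.mem_normalizer_iff.1 haN x).1 hx) (R.inv_mem hx)
  have h2 : x * a * x⁻¹ * (x * a * x⁻¹) = 1 := by
    calc x * a * x⁻¹ * (x * a * x⁻¹) = x * (a * a) * x⁻¹ := by group
      _ = 1 := by rw [ha]; group
  rw [inv_eq_of_sq ha, show a * x * a * x⁻¹ = a * (x * a * x⁻¹) by group] at h1
  have h3 := eq_one_of_odd hR h1 (by
    calc a * (x * a * x⁻¹) * (a * (x * a * x⁻¹)) = a * ((x * a * x⁻¹) * a) * (x * a * x⁻¹) := by group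
      _ = a * a * (x * a * x⁻¹ * (x * a * x⁻¹)) := by rw [← hc a _ ha h2]; group
      _ = 1 := by rw [ha, h2, one_mul])
  exact (inv_eq_of_mul_eq_one_right h3).symm.trans (inv_eq_of_sq ha)

theorem D2.sub [Finite G] (h : D2 G) {v w : G} (hv : IsInv v) (hw : IsInv w) (hvw : v ≠ w)
    {r : ℕ} [Fact r.Prime] {R : Subgroup G} (hR : IsSylowIn r R (fix2 v w))
    (ho : Odd (Nat.card R)) : D2 𝐍(R) := by
  have cN : ∀ a : G, (∀ x ∈ R, x * a * x⁻¹ = a) → a ∈ 𝐍(R) := fun a ha =>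
    Subgroup.centralizer_le_normalizer _ (Subgroup.mem_centralizer_iff.2 fun x hx =>
      mul_inv_eq_iff_eq_mul.1 (ha x hx))
  have inv : ∀ a : 𝐍(R), IsInv a → IsInv (a : G) := fun a ha =>
    ⟨fun e => ha.1 (Subtype.ext e), congrArg Subtype.val ha.2⟩
  have key : ∀ a b : 𝐍(R), IsInv a → IsInv b → a ≠ b →
      ∃ n ∈ 𝐍(R), n * a * n⁻¹ = v ∧ n * b * n⁻¹ = w := by
    intro a b ha hb hab
    obtain ⟨g, h1, h2⟩ := h.tr a b v w (inv a ha) (inv b hb) (fun e => hab (Subtype.ext e)) hv hw hvw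
    obtain ⟨c, hc, h3⟩ := hR.exists_cj_le (isPGroup_cj hR.isP g) (by
      intro x hx
      obtain ⟨y, hy, rfl⟩ := mem_cj'.1 hx
      have e1 := cent_of_norm h.comm ho (inv a ha).2 a.2 hy
      have e2 := cent_of_norm h.comm ho (inv b hb).2 b.2 hy
      refine ⟨?_, ?_⟩
      · rw [← h1]
        calc _ = g * (y * a * y⁻¹) * g⁻¹ := by group
          _ = _ := by rw [e1]
      · rw [← h2]
        calc _ = g * (y * b * y⁻¹) * g⁻¹ := by group
          _ = _ := by rw [e2])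
    rw [cj_cj] at h3
    refine ⟨c * g, mem_normalizer_of_cj_le h3, ?_, ?_⟩
    · rw [← hc.1, ← h1]; group
    · rw [← hc.2, ← h2]; group
  refine ⟨fun a b ha hb => Subtype.ext (h.comm a b (congrArg Subtype.val ha)
    (congrArg Subtype.val hb)), ⟨⟨v, cN v fun x hx => (hR.le hx).1⟩,
    ⟨w, cN w fun x hx => (hR.le hx).2⟩, ⟨fun e => hv.1 (congrArg Subtype.val e), Subtype.ext hv.2⟩,
    ⟨fun e => hw.1 (congrArg Subtype.val e), Subtype.ext hw.2⟩,
    fun e => hvw (congrArg Subtype.val e)⟩, fun a b c d ha hb hab hc hd hcd => ?_⟩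
  obtain ⟨n, hn, h1, h2⟩ := key a b ha hb hab
  obtain ⟨m, hm, h3, h4⟩ := key c d hc hd hcd
  refine ⟨⟨m⁻¹ * n, mul_mem (inv_mem hm) hn⟩, Subtype.ext ?_, Subtype.ext ?_⟩
  · show m⁻¹ * n * a * (m⁻¹ * n)⁻¹ = c
    calc _ = m⁻¹ * (n * a * n⁻¹) * m := by group
      _ = _ := by rw [h1, ← h3]; group
  · show m⁻¹ * n * b * (m⁻¹ * n)⁻¹ = d
    calc _ = m⁻¹ * (n * b * n⁻¹) * m := by group
      _ = _ := by rw [h2, ← h4]; group

theorem exists_odd_prime_of_not_isPGroup {H : Type*} [Group H] [Finite H] (h : ¬ IsPGroup 2 H) :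
    ∃ r : ℕ, r.Prime ∧ r ≠ 2 ∧ r ∣ Nat.card H := by
  by_contra hc
  push Not at hc
  exact h (IsPGroup.of_card (Nat.eq_prime_pow_of_unique_prime_dvd Nat.card_pos.ne'
    fun {d} hd h1 => by
      by_contra h2
      exact hc d hd h2 h1))

theorem odd_card_of_isPGroup {H : Type*} [Group H] [Finite H] {r : ℕ} [hr : Fact r.Prime]
    (h2 : r ≠ 2) (h : IsPGroup r H) : Odd (Nat.card H) := by
  obtain ⟨k, hk⟩ := IsPGroup.iff_card.1 h
  rw [hk]
  exact (hr.out.odd_of_ne_two h2).pow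

theorem card_quot_lt [Finite G] (K : Subgroup G) [K.Normal] (hK : K ≠ ⊥) :
    Nat.card (G ⧸ K) < Nat.card G := by
  rw [Subgroup.card_eq_card_quotient_mul_card_subgroup K]
  exact lt_mul_of_one_lt_right Nat.card_pos (K.one_lt_card_iff_ne_bot.2 hK)

theorem d2_reduce (core : ∀ (G : Type u) [Group G] [Finite G], D2 G →
      (∀ v w : G, IsInv v → IsInv w → v ≠ w → IsPGroup 2 (fix2 v w)) → False)
    (G : Type u) [Group G] [Finite G] : ¬ D2 G := by
  induction hn : Nat.card G using Nat.strong_induction_on generalizing G with | _ n ih =>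
  intro h
  refine core G h fun v w hv hw hvw => ?_
  by_contra hc
  obtain ⟨r, hr, h2, hd⟩ := exists_odd_prime_of_not_isPGroup hc
  haveI : Fact r.Prime := ⟨hr⟩
  obtain ⟨R, hR⟩ := exists_isSylowIn r (fix2 v w)
  have ho := odd_card_of_isPGroup h2 hR.isP
  have h1 := h.sub hv hw hvw hR ho
  have hne : R.subgroupOf 𝐍(R) ≠ ⊥ := by
    rw [ne_eq, Subgroup.subgroupOf_eq_bot, disjoint_iff, inf_eq_left.2 Subgroup.le_normalizer]
    exact hR.dvd_card_iff.1 hd
  refine ih _ ?_ (𝐍(R) ⧸ R.subgroupOf 𝐍(R)) rfl (h1.quot _ ?_)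
  · exact hn ▸ (card_quot_lt _ hne).trans_le (Subgroup.card_le_card_group _)
  · rwa [Nat.card_congr (Subgroup.subgroupOfEquivOfLe Subgroup.le_normalizer).toEquiv]

end H88.Pyr
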