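import Mathlib
import Cfsg.Agent.Lib.Pyr.Add2
import Cfsg.Agent.Lib.PGroup.Frattini
import Cfsg.Agent.S3776

/-!
# No group has all its involutions in a normal `2³` with automizer `GL₃(2)` (2-constrained case)
-/

set_option autoImplicit false
set_option linter.unusedSectionVars false
set_option linter.unusedVariables false
set_option linter.style.haveILetI false
set_option synthInstance.maxSize 1024

namespace H88.Pyr

/-- Shaw's theorem, elementwise -/
theorem shaw {G : Type*} [Group G] [Finite G] (P Y : Subgroup G) (hP : IsPGroup 2 P)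
    (hY : Group.IsSolvable Y) (hYP : Y ≤ Subgroup.normalizer (P : Set G))
    (h2 : ∃ a ∈ P, ∃ b ∈ P, a ≠ b ∧ a ≠ 1 ∧ a * a = 1 ∧ b ≠ 1 ∧ b * b = 1)
    (ht : ∀ a ∈ P, ∀ b ∈ P, a ≠ 1 → a * a = 1 → b ≠ 1 → b * b = 1 → ∃ y ∈ Y, y * a * y⁻¹ = b) :
    (∀ a ∈ P, ∀ b ∈ P, a * b = b * a) ∨
      ((∀ a ∈ P, a * a * (a * a) = 1) ∧
        ∀ a ∈ P, ∀ b ∈ P, (a⁻¹ * b * a * b⁻¹) * (a⁻¹ * b * a * b⁻¹) = 1) := by
  by_cases hna : IsMulCommutative P
  · exact Or.inl fun a ha b hb => congrArg Subtype.val (hna.is_comm.comm (⟨a, ha⟩ : P) ⟨b, hb⟩)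
  right
  haveI : Fact (Nat.Prime 2) := ⟨Nat.prime_two⟩
  let f : Y →* MulAut P := P.normalizerMonoidHom.comp (Subgroup.inclusion hYP)
  obtain ⟨h1, h3, h4⟩ := Cfsg.Agent.S3776.result hP hna (by
    obtain ⟨a, ha, b, hb, h1, h2, h3, h4, h5⟩ := h2
    exact ⟨⟨a, ha⟩, ⟨b, hb⟩, fun h => h1 (congrArg Subtype.val h),
      fun h => h2 (congrArg Subtype.val h), Subtype.ext (by simpa [pow_two] using h3),
      fun h => h4 (congrArg Subtype.val h), Subtype.ext (by simpa [pow_two] using h5)⟩)
    ⟨f.range, Group.isSolvable_of_surjective f.rangeRestrict_surjective, fun a b a1 a2 b1 b2 => by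
      obtain ⟨y, hy, e⟩ := ht a a.2 b b.2 (fun h => a1 (Subtype.ext h))
        (by simpa [pow_two] using congrArg Subtype.val a2) (fun h => b1 (Subtype.ext h))
        (by simpa [pow_two] using congrArg Subtype.val b2)
      exact ⟨f ⟨y, hy⟩, ⟨_, rfl⟩, Subtype.ext e⟩⟩
  constructor
  · intro a ha
    have := (h4 _).1 (h3 ▸ H5.pow_mem_frattini hP (⟨a, ha⟩ : P))
    simpa [pow_two] using congrArg Subtype.val this
  · intro a ha b hb
    have h5 : (⟨a, ha⟩ : P)⁻¹ * (⟨b, hb⟩ : P) * (⟨a, ha⟩ : P)⁻¹⁻¹ * (⟨b, hb⟩ : P)⁻¹ ∈ commutator P :=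
      Subgroup.commutator_mem_commutator (Subgroup.mem_top _) (Subgroup.mem_top _)
    rw [h1, h3] at h5
    have := (h4 _).1 h5
    simpa [pow_two] using congrArg Subtype.val this

/-- the additive action attached to a homomorphism into the automorphism group -/
@[reducible] def addAct {G M : Type*} [Group G] [CommGroup M] (f : G → M →* M)
    (h1 : ∀ m, f 1 m = m) (h2 : ∀ g h m, f (g * h) m = f g (f h m)) :
    DistribMulAction G (Additive M) where
  smul g a := Additive.ofMul (f g a.toMul)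
  one_smul a := congrArg Additive.ofMul (h1 _)
  mul_smul g h a := congrArg Additive.ofMul (h2 _ _ _)
  smul_zero g := congrArg Additive.ofMul (map_one (f g))
  smul_add g a b := congrArg Additive.ofMul (map_mul (f g) _ _)

variable {G : Type*} [Group G] [Finite G] {φ : G → X → X}

/-- the kernel of the action -/
def kerC (hφ : Act G φ) : Subgroup G where
  carrier := {c | ∀ v, φ c v = v}
  one_mem' := hφ.one
  mul_mem' := fun {a b} ha hb v => by rw [hφ.mul, hb, ha]
  inv_mem' := fun {a} ha v => by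
    conv_lhs => rw [← ha v, ← hφ.mul, inv_mul_cancel, hφ.one]

instance kerC_normal (hφ : Act G φ) : (kerC hφ).Normal where
  conj_mem := fun c hc g v => by
    rw [hφ.mul, hφ.mul, hc, ← hφ.mul, mul_inv_cancel, hφ.one]

theorem mem_kerC_of (hφ : Act G φ) {g h : G} (e : ∀ v, φ g v = φ h v) : h⁻¹ * g ∈ kerC hφ :=
  fun v => by rw [hφ.mul, e, ← hφ.mul, inv_mul_cancel, hφ.one]

theorem mX_trans : ∀ v w : X, v ≠ 0 → w ≠ 0 → ∃ i : Fin 7, mX^[i] v = w := by decide

theorem endgame (hφ : Act G φ) (ι : X → G) (hιa : ∀ v w, ι (v + w) = ι v * ι w)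
    (hιi : ∀ v, ι v = 1 → v = 0) (hΩ : ∀ a : G, a * a = 1 → ∃ v, a = ι v)
    (hιg : ∀ g v, g * ι v * g⁻¹ = ι (φ g v)) (hC2 : IsPGroup 2 (kerC hφ))
    {y g : G} (hy : ∀ v, φ y v = mY v) (hg : ∀ v, φ g v = mG v) (hyg : y * g * y = g) : False := by
  classical
  have ι0 : ι 0 = 1 := by
    have := hιa 0 0
    rw [add_zero] at this
    exact left_eq_mul.1 this
  have ι2 : ∀ v, ι v * ι v = 1 := fun v => by rw [← hιa, X_add_self, ι0]
  have ιinj : ∀ v w, ι v = ι w → v = w := fun v w h => by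
    have := hιi (v + w) (by rw [hιa, h, ι2])
    linear_combination (norm := abel) this - X_add_self w
  have ιC : ∀ w, ι w ∈ kerC hφ := fun w v => ιinj _ _ (by
    rw [← hιg, ← hιa, add_comm, hιa, mul_inv_cancel_right])
  have cen : ∀ c ∈ kerC hφ, ∀ v, c * ι v = ι v * c := fun c hc v => by
    have := hιg c v
    rw [hc] at this
    exact mul_inv_eq_iff_eq_mul.1 this
  set C := kerC hφ with hCdef
  obtain ⟨x, hx⟩ : ∃ g, ∀ v, φ g v = mX v := hφ.all _ _ _ (by decide)
  have hxi : ∀ (i : ℕ) v, φ (x ^ i) v = mX^[i] v := fun i => by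
    induction i with
    | zero => intro v; rw [pow_zero, hφ.one]; rfl
    | succ i ih => intro v; rw [pow_succ, hφ.mul, hx, ih]; rfl
  by_cases hab : ∀ a ∈ C, ∀ b ∈ C, a * b = b * a
  swap
  · have hna := (shaw C (Subgroup.zpowers x) hC2 (Group.isSolvable_of_comm fun a b =>
      (inferInstance : IsMulCommutative (Subgroup.zpowers x)).is_comm.comm a b) Subgroup.le_normalizer_of_normal
      ⟨ι (1,0,0), ιC _, ι (0,1,0), ιC _, fun h => absurd (ιinj _ _ h) (by decide),
        fun h => absurd (hιi _ h) (by decide), ι2 _, fun h => absurd (hιi _ h) (by decide), ι2 _⟩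
      (fun a _ b _ a1 a2 b1 b2 => by
        obtain ⟨v, rfl⟩ := hΩ a a2
        obtain ⟨w, rfl⟩ := hΩ b b2
        have v0 : v ≠ 0 := fun h => a1 (by rw [h, ι0])
        have w0 : w ≠ 0 := fun h => b1 (by rw [h, ι0])
        obtain ⟨i, hi⟩ := mX_trans v w v0 w0
        exact ⟨x ^ (i : ℕ), Subgroup.npow_mem_zpowers x i, by rw [hιg, hxi, hi]⟩)).resolve_left hab
    obtain ⟨hsq, hcm⟩ := hna
    apply hab
    let κ : G → X := Function.invFun ι
    have κι : ∀ v, κ (ι v) = v := Function.leftInverse_invFun fun v w => ιinj v w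
    let Z : Subgroup C :=
      { carrier := {c | ∃ v, (c : G) = ι v}
        one_mem' := ⟨0, ι0.symm⟩
        mul_mem' := by
          rintro a b ⟨v, hv⟩ ⟨w, hw⟩
          exact ⟨v + w, by rw [hιa, ← hv, ← hw]; rfl⟩
        inv_mem' := by
          rintro a ⟨v, hv⟩
          exact ⟨v, by rw [Subgroup.coe_inv, hv]; exact inv_eq_of_mul_eq_one_right (ι2 v)⟩ }
    haveI hZn : Z.Normal := ⟨by
      rintro a ⟨v, hv⟩ c
      exact ⟨v, by
        rw [Subgroup.coe_mul, Subgroup.coe_mul, Subgroup.coe_inv, hv, cen _ c.2,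
          mul_inv_cancel_right]⟩⟩
    have hcm' : ∀ a ∈ C, ∀ b ∈ C, ∃ v, a⁻¹ * b * a * b⁻¹ = ι v := fun a ha b hb =>
      hΩ _ (hcm a ha b hb)
    have hsq' : ∀ a ∈ C, ∃ v, a * a = ι v := fun a ha => hΩ _ (hsq a ha)
    letI : CommGroup (C ⧸ Z) := { (inferInstance : Group (C ⧸ Z)) with
      mul_comm := fun a b => by
        induction a using QuotientGroup.induction_on with | H a =>
        induction b using QuotientGroup.induction_on with | H b =>
        rw [← QuotientGroup.mk_mul, ← QuotientGroup.mk_mul, QuotientGroup.eq]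
        obtain ⟨v, hv⟩ := hcm' b b.2 a⁻¹ (C.inv_mem a.2)
        exact ⟨v, by rw [← hv]; simp [mul_assoc]⟩ }
    have hle : ∀ g : G, Z ≤ Z.comap (MulAut.conjNormal g : MulAut C).toMonoidHom := by
      rintro g a ⟨v, hv⟩
      exact ⟨φ g v, by rw [← hιg, ← hv]; rfl⟩
    letI : DistribMulAction G (Additive (C ⧸ Z)) :=
      addAct (fun g => QuotientGroup.map Z Z _ (hle g))
        (fun m => by
          induction m using QuotientGroup.induction_on with | H a =>
          rw [QuotientGroup.map_mk]; simp)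
        (fun g h m => by
          induction m using QuotientGroup.induction_on with | H a =>
          rw [QuotientGroup.map_mk, QuotientGroup.map_mk, QuotientGroup.map_mk]; simp)
    have sm : ∀ (g : G) (a : C), g • Additive.ofMul (a : C ⧸ Z) =
        Additive.ofMul ((MulAut.conjNormal g a : C) : C ⧸ Z) := fun _ _ => rfl
    have ind : ∀ m : Additive (C ⧸ Z), ∃ a : C, m = Additive.ofMul (a : C ⧸ Z) := fun m => by
      obtain ⟨a, ha⟩ := QuotientGroup.mk_surjective m.toMul
      exact ⟨a, by rw [ha]; rfl⟩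
    have ad : ∀ a b : C, Additive.ofMul (a : C ⧸ Z) + Additive.ofMul (b : C ⧸ Z) =
        Additive.ofMul ((a * b : C) : C ⧸ Z) := fun _ _ => rfl
    let q : Additive (C ⧸ Z) → X := fun m =>
      Quotient.liftOn' m.toMul (fun c : C => κ (c * c)) (fun a b hab => by
        obtain ⟨v, hv⟩ := QuotientGroup.leftRel_apply.1 hab
        have : (b : G) = a * ι v := by rw [← hv]; simp
        congr 1
        rw [this]
        calc (a : G) * a = a * a * (ι v * ι v) := by rw [ι2, mul_one]
          _ = a * (a * ι v) * ι v := by group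
          _ = a * (ι v * a) * ι v := by rw [cen _ a.2]
          _ = _ := by group)
    have hq : ∀ a : C, q (Additive.ofMul (a : C ⧸ Z)) = κ (a * a) := fun _ => rfl
    have hB : ∀ a b : C, ι (q (Additive.ofMul (a : C ⧸ Z) + Additive.ofMul (b : C ⧸ Z)) +
        q (Additive.ofMul (a : C ⧸ Z)) + q (Additive.ofMul (b : C ⧸ Z))) =
        (a : G)⁻¹ * b * a * (b : G)⁻¹ := fun a b => by
      obtain ⟨v, hv⟩ := hcm' a a.2 b b.2
      obtain ⟨w1, h1⟩ := hsq' a a.2
      obtain ⟨w2, h2⟩ := hsq' b b.2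
      have e : ((a * b : C) : G) * (a * b : C) = ι (w1 + v + w2) := by
        rw [hιa, hιa, ← hv, ← h1, ← h2, Subgroup.coe_mul]; group
      rw [ad, hq, hq, hq, e, h1, h2, κι, κι, κι, hv]
      congr 1
      linear_combination (norm := abel) X_add_self w1 + X_add_self w2
    have key := nonab_core (M := Additive (C ⧸ Z))
      (fun m => by
        obtain ⟨a, rfl⟩ := ind m
        rw [ad]
        exact congrArg Additive.ofMul ((QuotientGroup.eq_one_iff _).2 (hsq' a a.2)))
      hφ
      (fun a b e m => by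
        obtain ⟨c, rfl⟩ := ind m
        rw [sm, sm]
        congr 1
        rw [QuotientGroup.eq]
        obtain ⟨v, hv⟩ := hcm' _ (C.inv_mem (mem_kerC_of hφ e)) _ (C.inv_mem c.2)
        refine ⟨φ b v, ?_⟩
        rw [← hιg, ← hv]
        simp only [Subgroup.coe_mul, Subgroup.coe_inv, MulAut.conjNormal_apply]
        group)
      q (fun a b => q (a + b) + q a + q b)
      (fun a b => by linear_combination (norm := abel) - X_add_self (q a) - X_add_self (q b))
      (fun a b c => by
        obtain ⟨a, rfl⟩ := ind a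
        obtain ⟨b, rfl⟩ := ind b
        obtain ⟨c, rfl⟩ := ind c
        apply ιinj
        rw [ad a b, hB, hιa, hB, hB]
        obtain ⟨v, hv⟩ := hcm' a a.2 c c.2
        rw [hv, ← mul_assoc (ι v), ← mul_assoc (ι v), ← mul_assoc (ι v), ← cen _ (C.inv_mem b.2),
          ← hv, Subgroup.coe_mul]
        group)
      (fun g m => by
        obtain ⟨a, rfl⟩ := ind m
        obtain ⟨v, hv⟩ := hsq' a a.2
        rw [sm, hq, hq, hv, κι, MulAut.conjNormal_apply,
          show g * (a : G) * g⁻¹ * (g * a * g⁻¹) = g * (a * a) * g⁻¹ by group, hv, hιg, κι])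
      (fun m h => by
        obtain ⟨a, rfl⟩ := ind m
        obtain ⟨v, hv⟩ := hsq' a a.2
        rw [hq, hv, κι] at h
        rw [h, ι0] at hv
        exact congrArg Additive.ofMul ((QuotientGroup.eq_one_iff _).2 (hΩ _ hv)))
    intro a ha b hb
    have := hB ⟨a, ha⟩ ⟨b, hb⟩
    rw [key, ι0] at this
    calc a * b = a * (a⁻¹ * b * a * b⁻¹) * b := by rw [← this, mul_one]
      _ = _ := by group
  · -- abelian case
    letI : CommGroup C := { (inferInstance : Group C) with
      mul_comm := fun a b => Subtype.ext (hab a a.2 b b.2) }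
    letI : DistribMulAction G (Additive C) :=
      addAct (fun g => (MulAut.conjNormal g : MulAut C).toMonoidHom) (fun m => by simp)
        (fun g h m => by simp)
    have sm : ∀ (g : G) (a : C), ((g • Additive.ofMul a).toMul : G) = g * a * g⁻¹ := fun _ _ => rfl
    have ext : ∀ a b : Additive C, (a.toMul : G) = b.toMul → a = b := fun a b h =>
      Additive.toMul.injective (Subtype.ext h)
    obtain ⟨h, hh⟩ : ∃ g, ∀ v, φ g v = mH v := hφ.all _ _ _ (by decide)
    obtain ⟨t2, ht2⟩ : ∃ g, ∀ v, φ g v = mT2 v := hφ.all _ _ _ (by decide)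
    have hhi : ∀ v, φ h⁻¹ v = mH v := fun v => by
      have : v = φ h (mH v) := by rw [hh]; revert v; decide
      conv_lhs => rw [this, ← hφ.mul, inv_mul_cancel, hφ.one]
    have ht1 : ∀ v, φ (h * g * h⁻¹) v = mT1 v := by
      simp only [hφ.mul, hh, hhi, hg]; decide
    obtain ⟨k1, k2⟩ := ab_core (A := Additive C) hφ (fun a b e m => ext _ _ (by
        have h1 := hab _ (mem_kerC_of hφ e) _ m.toMul.2
        show a * _ * a⁻¹ = b * _ * b⁻¹
        calc a * (m.toMul : G) * a⁻¹ = b * (b⁻¹ * a * m.toMul) * a⁻¹ := by group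
          _ = _ := by rw [h1]; group))
      (fun v => Additive.ofMul ⟨ι v, ιC v⟩) (fun v w => ext _ _ (hιa v w))
      (fun v h => hιi v (congrArg (fun a : Additive C => (a.toMul : G)) h))
      (fun g v => ext _ _ (hιg g v))
      (fun a h => by
        obtain ⟨v, hv⟩ := hΩ a.toMul (congrArg (fun a : Additive C => (a.toMul : G)) h)
        exact ⟨v, ext _ _ hv⟩)
      (by
        obtain ⟨e, he⟩ := IsPGroup.iff_card.1 hC2
        exact ⟨e, fun a => Additive.toMul.injective (by
          rw [toMul_nsmul, ← he, pow_card_eq_one']; rfl)⟩)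
      hy hg ht1 ht2
    have gC : g * g ∈ C := fun v => by rw [hφ.mul, hg, hg]; revert v; decide
    have ygg : y * (g * g) * y⁻¹ = g * g := by
      calc y * (g * g) * y⁻¹ = y * (g * (y * g * y)) * y⁻¹ := by rw [hyg]
        _ = (y * g * y) * g := by group
        _ = _ := by rw [hyg]
    have e1 : g * (g * g) * g⁻¹ = (g * g)⁻¹ :=
      congrArg (fun a : Additive C => (a.toMul : G)) (k1 (Additive.ofMul ⟨g * g, gC⟩) (ext _ _ ygg))
    obtain ⟨u, hu⟩ := hΩ (g * g) (by
      calc g * g * (g * g) = g * (g * g) * g⁻¹ * (g * g) := by group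
        _ = 1 := by rw [e1, inv_mul_cancel])
    have u1 : mY u = u := ιinj _ _ (by rw [← hy, ← hιg, ← hu, ygg])
    have u0 : u ≠ 0 := fun h0 => by
      rw [h0, ι0] at hu
      obtain ⟨v, hv⟩ := hΩ g hu
      have := ιC v (0,1,0)
      rw [← hv, hg] at this
      revert this; decide
    have u2 : mH u = (0,1,0) := by
      clear hu
      revert u; decide
    set t1 := h * g * h⁻¹ with ht1d
    have tt : t1 * t1 = ι (0,1,0) := by
      rw [← u2, ← hh, ← hιg, ← hu, ht1d]; group
    have aC : t1⁻¹ * (g * t2 * (g * t2)) ∈ C :=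
      mem_kerC_of hφ (by simp only [hφ.mul, ht1, hg, ht2]; decide)
    set a := t1⁻¹ * (g * t2 * (g * t2)) with ha
    have e2 : g * (t2 * (a * (t1 * a * t1⁻¹)) * t2⁻¹) * g⁻¹ = a * (t1 * a * t1⁻¹) :=
      congrArg (fun a : Additive C => (a.toMul : G)) (k2 (Additive.ofMul ⟨a, aC⟩))
    have aC' : t1 * a * t1⁻¹ ∈ C := (inferInstance : C.Normal).conj_mem _ aC _
    have e3 : g * t2 * (g * t2) * (g * t2 * (g * t2)) = a * (t1 * a * t1⁻¹) * ι (0,1,0) := by
      calc g * t2 * (g * t2) * (g * t2 * (g * t2)) = t1 * a * t1⁻¹ * (t1 * t1) * a := by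
            rw [ha]; group
        _ = _ := by
            rw [tt, mul_assoc, ← cen a aC, ← mul_assoc, hab _ aC' _ aC]
    have e4 : (g * t2) * ι (0,1,0) * (g * t2)⁻¹ = ι (0,1,0) := by
      apply mul_left_cancel (a := a * (t1 * a * t1⁻¹))
      rw [← e3]
      conv_lhs => rw [← e2]
      calc _ = g * t2 * (a * (t1 * a * t1⁻¹) * ι (0,1,0)) * (g * t2)⁻¹ := by group
        _ = _ := by rw [← e3]; group
    rw [hιg, hφ.mul, ht2, hg] at e4
    exact absurd (ιinj _ _ e4) (by decide)

end H88.Pyr
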