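import Mathlib
import Cfsg.Agent.Lib.Pyr.Two1
import Cfsg.Agent.S0199

/-!
# Doubly transitive action on commuting involutions: the element of order three, transvections
-/

set_option autoImplicit false
set_option linter.unusedSectionVars false
set_option linter.unusedVariables false
set_option linter.style.haveILetI false

namespace H88.Pyr

open H69

universe u

variable {G : Type u} [Group G]

theorem exists_last (P : G → Prop) (h1 : P 1) (g : G) (hg : ¬ P g) :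
    ∀ k : ℕ, g ^ 2 ^ k = 1 → ∃ j : ℕ, ¬ P (g ^ 2 ^ j) ∧ P (g ^ 2 ^ j * g ^ 2 ^ j) := by
  have : ∀ k : ℕ, P (g ^ 2 ^ k) → ∃ j : ℕ, ¬ P (g ^ 2 ^ j) ∧ P (g ^ 2 ^ j * g ^ 2 ^ j) := by
    intro k
    induction k with
    | zero => intro h; exact absurd (by simpa using h) hg
    | succ k ih =>
      intro h
      by_cases h2 : P (g ^ 2 ^ k)
      · exact ih h2
      · exact ⟨k, h2, by rwa [← pow_add, ← two_mul, ← pow_succ']⟩
  exact fun k hk => this k (hk ▸ h1)

theorem exists_inv_pow {g : G} (hg : g ≠ 1) {k : ℕ} (hk : g ^ 2 ^ k = 1) :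
    ∃ j : ℕ, IsInv (g ^ 2 ^ j) := exists_last (fun x : G => x = (1 : G)) rfl g hg k hk

theorem IsInv.mul (hc : ∀ a b : G, a * a = 1 → b * b = 1 → a * b = b * a) {a b : G}
    (ha : IsInv a) (hb : IsInv b) (hab : a ≠ b) : IsInv (a * b) :=
  ⟨fun e => hab ((inv_eq_of_sq ha.2).symm.trans (inv_eq_of_mul_eq_one_right e)), by
    calc a * b * (a * b) = a * (b * a) * b := by group
      _ = a * a * (b * b) := by rw [← hc a b ha.2 hb.2]; group
      _ = 1 := by rw [ha.2, hb.2, one_mul]⟩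

theorem pow_of_mem {H : Subgroup G} (h : IsPGroup 2 H) {g : G} (hg : g ∈ H) :
    ∃ k : ℕ, g ^ 2 ^ k = 1 := by
  obtain ⟨k, hk⟩ := h ⟨g, hg⟩
  exact ⟨k, congrArg Subtype.val hk⟩

theorem conj_mul' (g a b : G) : g * (a * b) * g⁻¹ = (g * a * g⁻¹) * (g * b * g⁻¹) := by group

theorem conj_mul'' (g h a : G) : (g * h) * a * (g * h)⁻¹ = g * (h * a * h⁻¹) * g⁻¹ := by group

theorem D2.pair [Finite G] (h : D2 G)
    (h2 : ∀ v w : G, IsInv v → IsInv w → v ≠ w → IsPGroup 2 (fix2 v w))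
    {a b : G} (ha : IsInv a) (hb : IsInv b) (hab : a ≠ b) :
    ∃ y g u : G, y * a * y⁻¹ = b ∧ y * b * y⁻¹ = a * b ∧ g * a * g⁻¹ = a ∧ g * b * g⁻¹ = a * b ∧
      y * g * y = g ∧ IsInv u ∧ y * u * y⁻¹ = u ∧ g * u * g⁻¹ = u ∧ ∃ k : ℕ, g ^ 2 ^ k = 1 := by
  classical
  have hc := ha.mul h.comm hb hab
  have n1 : b ≠ a * b := fun e => ha.1 (right_eq_mul.1 e)
  have n2 : a ≠ a * b := fun e => hb.1 (left_eq_mul.1 e)
  have e1 : b * (a * b) = a := by rw [h.comm a b ha.2 hb.2, ← mul_assoc, hb.2, one_mul]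
  have e2 : a * (a * b) = b := by rw [← mul_assoc, ha.2, one_mul]
  have hF := h2 a b ha hb hab
  obtain ⟨y, y1, y2, y3⟩ : ∃ y : G, y * a * y⁻¹ = b ∧ y * b * y⁻¹ = a * b ∧ y * y * y = 1 := by
    obtain ⟨x, x1, x2⟩ := h.tr a b b (a * b) ha hb hab hb hc n1
    have x3 : x * (a * b) * x⁻¹ = a := by rw [conj_mul', x1, x2, e1]
    have hx : x ^ 3 ∈ fix2 a b := by
      rw [show x ^ 3 = x * x * x by rw [pow_succ, pow_two]]
      exact ⟨by rw [conj_mul'', conj_mul'', x1, x2, x3], by rw [conj_mul'', conj_mul'', x2, x3, x1]⟩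
    obtain ⟨k, hk⟩ := pow_of_mem hF hx
    obtain ⟨m, hm⟩ : ∃ m, 4 ^ k = 1 + 3 * m := by
      have : 4 ^ k % 3 = 1 := by simp [Nat.pow_mod]
      exact ⟨4 ^ k / 3, by omega⟩
    have hm' := (fix2 a b).pow_mem hx m
    refine ⟨x ^ 4 ^ k, ?_, ?_, ?_⟩
    · rw [hm, pow_add, pow_one, pow_mul, conj_mul'', hm'.1, x1]
    · rw [hm, pow_add, pow_one, pow_mul, conj_mul'', hm'.2, x2]
    · rw [← pow_add, ← pow_add, show 4 ^ k + 4 ^ k + 4 ^ k = 3 * 2 ^ k * 2 ^ k by
        rw [show 4 = 2 * 2 by rfl, mul_pow]; ring, pow_mul, pow_mul, hk, one_pow]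
  have y4 : y * (a * b) * y⁻¹ = a := by rw [conj_mul', y1, y2, e1]
  obtain ⟨g, g1, g2, hg⟩ : ∃ g : G, g * a * g⁻¹ = a ∧ g * b * g⁻¹ = a * b ∧ y * g * y = g := by
    obtain ⟨g0, g1, g2⟩ := h.tr a b a (a * b) ha hb hab ha hc n2
    let S := {g : G // g * a * g⁻¹ = a ∧ g * b * g⁻¹ = a * b}
    let e : fix2 a b ≃ S :=
      { toFun := fun c => ⟨g0 * c, by rw [conj_mul'', c.2.1, g1], by rw [conj_mul'', c.2.2, g2]⟩
        invFun := fun g => ⟨g0⁻¹ * g, by
          rw [conj_mul'', g.2.1]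
          conv_lhs => rw [← g1]
          group, by
          rw [conj_mul'', g.2.2, ← g2]
          group⟩
        left_inv := fun c => Subtype.ext (by simp)
        right_inv := fun c => Subtype.ext (by simp) }
    let f : S → S := fun g => ⟨y * g * y, by rw [conj_mul'', conj_mul'', y1, g.2.2, y4], by
      rw [conj_mul'', conj_mul'', y2, conj_mul' (g : G) a b, g.2.1, g.2.2, e2, y2]⟩
    have hf : ∀ g, f (f (f g)) = g := fun g => Subtype.ext (by
      show y * (y * (y * g * y) * y) * y = g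
      calc _ = (y * y * y) * g * (y * y * y) := by group
        _ = _ := by rw [y3]; group)
    let σ : Equiv.Perm S := ⟨f, fun g => f (f g), hf, hf⟩
    haveI := Fintype.ofFinite S
    haveI : Fact (Nat.Prime 3) := ⟨Nat.prime_three⟩
    obtain ⟨k, hk⟩ := IsPGroup.iff_card.1 hF
    obtain ⟨g, hg⟩ := Equiv.Perm.exists_fixed_point_of_prime (p := 3) (n := 1) (σ := σ) (by
      rw [← Nat.card_eq_fintype_card, ← Nat.card_congr e, hk]
      intro h3
      exact absurd (Nat.prime_three.dvd_of_dvd_pow h3) (by decide)) (by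
      ext1 g
      rw [pow_one, pow_succ, pow_two]
      exact hf g)
    exact ⟨g, g.2.1, g.2.2, congrArg Subtype.val hg⟩
  have hgg : g * g ∈ fix2 a b :=
    ⟨by rw [conj_mul'', g1, g1], by rw [conj_mul'', g2, conj_mul', g1, g2, e2]⟩
  have g0 : g * g ≠ 1 := fun e => n1 (by
    rw [← g2, h.comm g b e hb.2, mul_inv_cancel_right])
  obtain ⟨k, hk⟩ := pow_of_mem hF hgg
  obtain ⟨j, hj⟩ := exists_inv_pow g0 hk
  have ygg : y * (g * g) * y⁻¹ = g * g := by
    calc y * (g * g) * y⁻¹ = y * (g * (y * g * y)) * y⁻¹ := by rw [hg]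
      _ = (y * g * y) * g := by group
      _ = _ := by rw [hg]
  refine ⟨y, g, (g * g) ^ 2 ^ j, y1, y2, g1, g2, hg, hj, by rw [← conj_pow, ygg], ?_, k + 1, ?_⟩
  · rw [← conj_pow]
    congr 1
    group
  · rw [pow_succ', pow_mul, pow_two, hk]

/-- a counting lemma in an elementary abelian 2-group -/
theorem index_bound {A : Type*} [CommGroup A] [Finite A] (hA : ∀ a : A, a * a = 1) (f : A →* A)
    (hf : ∀ a, f (f a) = a) {c x : A} (hc : c ≠ 1) (hx : c = x * f x) :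
    ∃ D : Subgroup A, (∀ a ∈ D, f a = a ∨ f a = a * c) ∧ 4 * D.index ^ 2 ≤ Nat.card A := by
  let δ : A →* A := MonoidHom.id A * f
  have hδ : ∀ a, δ a = a * f a := fun _ => rfl
  have ho : orderOf c = 2 := isInv_iff.1 ⟨hc, hA c⟩
  refine ⟨(Subgroup.zpowers c).comap δ, fun a ha => ?_, ?_⟩
  · obtain ⟨n, hn⟩ := Subgroup.mem_zpowers_iff.1 ha
    have h1 : f a = a * c ^ n := by rw [hn, hδ, ← mul_assoc, hA, one_mul]
    rcases Int.even_or_odd' n with ⟨m, rfl | rfl⟩
    · left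
      rw [h1, zpow_mul, zpow_two, hA, one_zpow, mul_one]
    · right
      rw [h1, zpow_add, zpow_mul, zpow_two, hA, one_zpow, one_mul, zpow_one]
  · have h1 : Subgroup.zpowers c ≤ δ.range := Subgroup.zpowers_le.2 ⟨x, hx.symm⟩
    have h2 : δ.range ≤ δ.ker := by
      rintro _ ⟨a, rfl⟩
      rw [MonoidHom.mem_ker, hδ, hδ, map_mul, hf, mul_comm (f a), hA]
    have h3 := Subgroup.card_le_of_le h2
    have h4 := δ.ker.card_mul_index
    rw [Subgroup.index_ker] at h4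
    have h5 := ((Subgroup.zpowers c).subgroupOf δ.range).card_mul_index
    rw [Nat.card_congr (Subgroup.subgroupOfEquivOfLe h1).toEquiv, Nat.card_zpowers, ho] at h5
    rw [Subgroup.index_comap, Subgroup.relIndex, ← h4, ← h5]
    rw [← h5] at h3
    nlinarith

theorem common_pair {A : Type*} [CommGroup A] [Finite A] (hA : ∀ a : A, a * a = 1)
    (f f' : A →* A) (hf : ∀ a, f (f a) = a) (hf' : ∀ a, f' (f' a) = a) {c x x' : A} (hc : c ≠ 1)
    (hx : c = x * f x) (hx' : c = x' * f' x') :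
    ∃ a, a ≠ 1 ∧ a ≠ c ∧ (f a = a ∨ f a = a * c) ∧ (f' a = a ∨ f' a = a * c) := by
  obtain ⟨D, h1, h2⟩ := index_bound hA f hf hc hx
  obtain ⟨D', h1', h2'⟩ := index_bound hA f' hf' hc hx'
  have h3 := Subgroup.index_inf_le (H := D) (K := D')
  have h4 := (D ⊓ D').card_mul_index
  have h5 : 0 < (D ⊓ D').index := Nat.pos_of_ne_zero Subgroup.index_ne_zero_of_finite
  have h6 : 4 * (D.index * D'.index) ≤ Nat.card A := by
    nlinarith [sq_nonneg ((D.index : ℤ) - D'.index)]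
  have h7 : 2 < Nat.card (D ⊓ D' : Subgroup A) := by
    by_contra h8
    push Not at h8
    nlinarith
  by_contra hn
  push Not at hn
  have h8 : ((D ⊓ D' : Subgroup A) : Set A) ⊆ {1, c} := fun a ha => by
    by_contra h9
    simp only [Set.mem_insert_iff, Set.mem_singleton_iff, not_or] at h9
    have := hn a h9.1 h9.2 (h1 a ha.1)
    rcases h1' a ha.2 with e | e
    · exact this.1 e
    · exact this.2 e
  have h9 := (Set.ncard_le_ncard h8).trans ((Set.ncard_pair hc.symm).le)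
  have : ((D ⊓ D' : Subgroup A) : Set A).ncard = Nat.card (D ⊓ D' : Subgroup A) := rfl
  omega

/-- the subgroup of elements of order at most two -/
def om (hc : ∀ a b : G, a * a = 1 → b * b = 1 → a * b = b * a) : Subgroup G where
  carrier := {a | a * a = 1}
  one_mem' := mul_one 1
  mul_mem' := fun {a b} ha hb => by
    show a * b * (a * b) = 1
    calc a * b * (a * b) = a * (b * a) * b := by group
      _ = a * a * (b * b) := by rw [← hc a b ha hb]; group
      _ = 1 := by rw [ha, hb, one_mul]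
  inv_mem' := fun {a} ha => by
    show a⁻¹ * a⁻¹ = 1
    rw [← mul_inv_rev, ha, inv_one]

theorem mem_om {hc : ∀ a b : G, a * a = 1 → b * b = 1 → a * b = b * a} {a : G} :
    a ∈ om hc ↔ a * a = 1 := Iff.rfl

instance om_normal (hc : ∀ a b : G, a * a = 1 → b * b = 1 → a * b = b * a) : (om hc).Normal where
  conj_mem := fun a ha g => by
    show g * a * g⁻¹ * (g * a * g⁻¹) = 1
    rw [← conj_mul', mem_om.1 ha]; group

theorem isPGroup_om (hc : ∀ a b : G, a * a = 1 → b * b = 1 → a * b = b * a) :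
    IsPGroup 2 (om hc) := fun a => ⟨1, Subtype.ext (by simpa [pow_two] using mem_om.1 a.2)⟩

/-- stabilizer of `c` and of the pair `{a, a c}` -/
def stab (c a : G) (hc : c * c = 1) : Subgroup G where
  carrier := {k | k * c * k⁻¹ = c ∧ (k * a * k⁻¹ = a ∨ k * a * k⁻¹ = a * c)}
  one_mem' := by simp
  mul_mem' := fun {k l} hk hl => ⟨by rw [conj_mul'', hl.1, hk.1], by
    rw [conj_mul'']
    rcases hl.2 with e | e <;> rcases hk.2 with e' | e'
    · left; rw [e, e']
    · right; rw [e, e']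
    · right; rw [e, conj_mul', e', hk.1]
    · left; rw [e, conj_mul', e', hk.1, mul_assoc, hc, mul_one]⟩
  inv_mem' := fun {k} hk => by
    have h1 : k⁻¹ * c * k⁻¹⁻¹ = c := by
      conv_lhs => rw [← hk.1]
      group
    refine ⟨h1, ?_⟩
    rcases hk.2 with e | e
    · left
      conv_lhs => rw [← e]
      group
    · right
      have : a = k * a * k⁻¹ * c := by rw [e, mul_assoc, hc, mul_one]
      conv_lhs => rw [this, conj_mul', h1]
      group

theorem isPGroup_stab {c a : G} (hc : c * c = 1) (h : IsPGroup 2 (fix2 c a)) :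
    IsPGroup 2 (stab c a hc) := fun k => by
  have : (k : G) * k ∈ fix2 c a := ⟨by rw [conj_mul'', k.2.1, k.2.1], by
    rw [conj_mul'']
    rcases k.2.2 with e | e
    · rw [e, e]
    · rw [e, conj_mul', e, k.2.1, mul_assoc, hc, mul_one]⟩
  obtain ⟨n, hn⟩ := pow_of_mem h this
  exact ⟨n + 1, Subtype.ext (by rw [Subgroup.coe_pow, pow_succ', pow_mul, pow_two, hn]; rfl)⟩

theorem D2.transvection [Finite G] (h : D2 G)
    (h2 : ∀ v w : G, IsInv v → IsInv w → v ≠ w → IsPGroup 2 (fix2 v w)) :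
    ∃ t c a : G, IsInv c ∧ a * a = 1 ∧ t * c * t⁻¹ = c ∧ t * a * t⁻¹ = a * c ∧
      ∀ v : G, v * v = 1 → t * v * t⁻¹ = v ∨ t * v * t⁻¹ = v * c := by
  classical
  obtain ⟨t, ⟨x, hx, hxt⟩, htt⟩ : ∃ t : G, (∃ x : G, x * x = 1 ∧ t * x * t⁻¹ ≠ x) ∧
      ∀ v : G, v * v = 1 → t * (t * v * t⁻¹) * t⁻¹ = v := by
    obtain ⟨a, b, ha, hb, hab⟩ := h.two
    obtain ⟨y, g, u, -, -, -, g2, -, -, -, -, k, hk⟩ := h.pair h2 ha hb hab
    obtain ⟨j, h3, h4⟩ := exists_last (fun s : G => ∀ v : G, v * v = 1 → s * v * s⁻¹ = v)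
      (by simp) g (fun h3 => ha.1 (right_eq_mul.1 ((h3 b hb.2).symm.trans g2))) k hk
    push Not at h3
    exact ⟨_, h3, fun v hv => by rw [← conj_mul'']; exact h4 v hv⟩
  let V := om h.comm
  have hx' : t * x * t⁻¹ ∈ V := (om_normal h.comm).conj_mem _ hx t
  obtain ⟨c, hcd⟩ : ∃ c, c = x * (t * x * t⁻¹) := ⟨_, rfl⟩
  have hc : IsInv c := ⟨fun e => hxt (by
    rw [hcd] at e
    exact (inv_eq_of_mul_eq_one_right e).symm.trans (inv_eq_of_sq hx)),
    hcd ▸ V.mul_mem hx hx'⟩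
  have tc : t * c * t⁻¹ = c := by
    rw [hcd, conj_mul', htt x hx, h.comm _ _ hx hx']
  refine ⟨t, c, x, hc, hx, tc, by rw [hcd, ← mul_assoc x, hx, one_mul], ?_⟩
  let H := fix2 c c
  letI : CommGroup V := { (inferInstance : Group V) with
    mul_comm := fun a b => Subtype.ext (h.comm a b a.2 b.2) }
  have hsup : ∀ k : H, IsPGroup 2 ↥(Subgroup.zpowers (⟨t, tc, tc⟩ : H) ⊔
      (Subgroup.zpowers (⟨t, tc, tc⟩ : H)).map (MulAut.conj k).toMonoidHom) := fun k => by
    obtain ⟨a, a1, a2, a3, a4⟩ := common_pair (A := V) (fun a => Subtype.ext a.2)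
      (MulAut.conjNormal t : MulAut V).toMonoidHom
      (MulAut.conjNormal ((k : G) * t * (k : G)⁻¹) : MulAut V).toMonoidHom
      (fun a => Subtype.ext (htt a a.2))
      (fun a => Subtype.ext (by
        have := htt _ ((om_normal h.comm).conj_mem _ a.2 (k : G)⁻¹)
        show (k : G) * t * (k : G)⁻¹ * ((k : G) * t * (k : G)⁻¹ * a * ((k : G) * t * (k : G)⁻¹)⁻¹) *
          ((k : G) * t * (k : G)⁻¹)⁻¹ = a
        calc _ = k * (t * (t * ((k : G)⁻¹ * a * (k : G)⁻¹⁻¹) * t⁻¹) * t⁻¹) * (k : G)⁻¹ := by group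
          _ = _ := by rw [this]; group))
      (c := ⟨c, hc.2⟩) (x := ⟨x, hx⟩) (x' := ⟨k * x * (k : G)⁻¹, (om_normal h.comm).conj_mem _ hx k⟩)
      (fun e => hc.1 (congrArg Subtype.val e)) (Subtype.ext hcd) (Subtype.ext (by
        show c = k * x * (k : G)⁻¹ * ((k : G) * t * (k : G)⁻¹ * (k * x * (k : G)⁻¹) *
          ((k : G) * t * (k : G)⁻¹)⁻¹)
        rw [← k.2.1, hcd]; group))
    have hS := isPGroup_stab hc.2 (h2 c a hc ⟨fun e => a1 (Subtype.ext e), a.2⟩
      (fun e => a2 (Subtype.ext e.symm)))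
    refine (hS.comap_subtype (K := H)).to_le (sup_le ?_ ?_)
    · rw [Subgroup.zpowers_le]
      exact ⟨tc, a3.imp (congrArg Subtype.val) (congrArg Subtype.val)⟩
    · rw [MonoidHom.map_zpowers, Subgroup.zpowers_le]
      exact ⟨((MulAut.conj k).toMonoidHom ⟨t, tc, tc⟩ : H).2.1, a4.imp (congrArg Subtype.val) (congrArg Subtype.val)⟩
  obtain ⟨N, hN, hN2, hle⟩ := Cfsg.Agent.S0199.result (p := 2)
    (Subgroup.zpowers (⟨t, tc, tc⟩ : H)) (G := H) ((hsup 1).to_le le_sup_left) hsup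
  have tN : (⟨t, tc, tc⟩ : H) ∈ N := hle (Subgroup.mem_zpowers _)
  have cH : c ∈ H := ⟨by group, by group⟩
  have VH : ∀ v : G, v * v = 1 → v ∈ H := fun v hv => by
    have : v * c * v⁻¹ = c := by rw [h.comm v c hv hc.2, mul_inv_cancel_right]
    exact ⟨this, this⟩
  let Z : Subgroup H := Subgroup.zpowers ⟨c, cH⟩
  have hZ : ∀ z ∈ Z, (z : G) = 1 ∨ (z : G) = c := by
    intro z hz
    obtain ⟨n, rfl⟩ := Subgroup.mem_zpowers_iff.1 hz
    rw [Subgroup.coe_zpow]
    rcases Int.even_or_odd' n with ⟨m, rfl | rfl⟩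
    · left
      rw [zpow_mul, zpow_two, hc.2, one_zpow]
    · right
      rw [zpow_add, zpow_mul, zpow_two, hc.2, one_zpow, one_mul, zpow_one]
  haveI hZn : Z.Normal := ⟨fun z hz k => by
    rcases hZ z hz with e | e
    · rw [show z = 1 from Subtype.ext e]; simp
    · rw [show k * z * k⁻¹ = ⟨c, cH⟩ from Subtype.ext (by
        show k * (z : G) * (k : G)⁻¹ = c
        rw [e, k.2.1])]
      exact Subgroup.mem_zpowers _⟩
  have xc : x ≠ c := fun e => hxt (by rw [e, tc])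
  have x1 : x ≠ 1 := fun e => hxt (by rw [e]; group)
  haveI : ((V.subgroupOf H).map (QuotientGroup.mk' Z)).Normal :=
    Subgroup.Normal.map inferInstance _ (QuotientGroup.mk'_surjective Z)
  have hne := inf_centralizer_ne_bot (p := 2)
    (((isPGroup_om h.comm).comap_subtype (K := H)).map (QuotientGroup.mk' Z))
    (hN2.map (QuotientGroup.mk' Z)) Subgroup.le_normalizer_of_normal (fun e => by
      have : (QuotientGroup.mk' Z) ⟨x, VH x hx⟩ ∈ (⊥ : Subgroup (H ⧸ Z)) := e ▸ ⟨_, hx, rfl⟩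
      rcases hZ _ ((QuotientGroup.eq_one_iff _).1 (Subgroup.mem_bot.1 this)) with e | e
      · exact x1 e
      · exact xc e)
  obtain ⟨⟨_, ⟨a, ha, rfl⟩, hac⟩, ha1⟩ := Subgroup.ne_bot_iff_exists_ne_one.1 hne
  have haZ : a ∉ Z := fun e => ha1 (Subtype.ext ((QuotientGroup.eq_one_iff _).2 e))
  have ha' : IsInv (a : G) := ⟨fun e => haZ (by rw [show a = 1 from Subtype.ext e]; exact Z.one_mem), ha⟩
  have hca : c ≠ a := fun e => haZ (by
    rw [show a = ⟨c, cH⟩ from Subtype.ext e.symm]; exact Subgroup.mem_zpowers _)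
  have key : ∀ n ∈ N, (n : G) * a * (n : G)⁻¹ = a ∨ (n : G) * a * (n : G)⁻¹ = a * c := by
    intro n hn
    have h3 := Subgroup.mem_centralizer_iff.1 hac _ ⟨n, hn, rfl⟩
    have h4 : a⁻¹ * (n * a * n⁻¹) ∈ Z := by
      rw [← QuotientGroup.eq, QuotientGroup.mk_mul, QuotientGroup.mk_mul, QuotientGroup.mk_inv,
        eq_mul_inv_iff_mul_eq]
      exact h3.symm
    rcases hZ _ h4 with e | e
    · left
      exact (inv_mul_eq_one.1 e).symm
    · right
      exact inv_mul_eq_iff_eq_mul.1 e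
  intro v hv
  by_cases v1 : v = 1
  · left; rw [v1]; group
  by_cases vc : c = v
  · left; rw [← vc, tc]
  obtain ⟨k, k1, k2⟩ := h.tr c a c v hc ha' hca hc ⟨v1, hv⟩ vc
  have := key _ (hN.conj_mem _ tN (⟨k, k1, k1⟩ : H)⁻¹)
  have e : t * v * t⁻¹ = k * (k⁻¹ * t * k⁻¹⁻¹ * a * (k⁻¹ * t * k⁻¹⁻¹)⁻¹) * k⁻¹ := by
    rw [← k2]; group
  rcases this with e1 | e1
  · left
    rw [e]
    exact (congrArg (fun z => k * z * k⁻¹) e1).trans k2
  · right
    rw [e]
    exact (congrArg (fun z => k * z * k⁻¹) e1).trans (by rw [conj_mul', k1, k2])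

end H88.Pyr
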