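import Mathlib
import Cfsg.Agent.Lib.Pyr.Two2
import Cfsg.Agent.Lib.Pyr.End

/-!
# No finite group is doubly transitive on a set of at least two pairwise commuting involutions
(all its involutions)
-/

set_option autoImplicit false
set_option linter.unusedSectionVars false
set_option linter.unusedVariables false
set_option linter.style.haveILetI false
set_option synthInstance.maxSize 1024

namespace H88.Pyr

universe u

variable {G : Type u} [Group G]

/-- power by a residue mod two -/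
def pw (x : G) (i : ZMod 2) : G := if i = 0 then 1 else x

theorem zmod_cases (i : ZMod 2) : i = 0 ∨ i = 1 := by revert i; decide

theorem pw_zero (x : G) : pw x 0 = 1 := if_pos rfl

theorem pw_one (x : G) : pw x 1 = x := if_neg (by decide)

theorem pw_add {x : G} (h : x * x = 1) (i j : ZMod 2) : pw x (i + j) = pw x i * pw x j := by
  rcases zmod_cases i with rfl | rfl <;> rcases zmod_cases j with rfl | rfl
  · rw [add_zero, pw_zero, mul_one]
  · rw [zero_add, pw_zero, one_mul]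
  · rw [add_zero, pw_zero, mul_one]
  · rw [show (1 : ZMod 2) + 1 = 0 by decide, pw_zero, pw_one, h]

theorem pw_sq {x : G} (h : x * x = 1) (i : ZMod 2) : pw x i * pw x i = 1 := by
  rcases zmod_cases i with rfl | rfl
  · rw [pw_zero, mul_one]
  · rw [pw_one, h]

theorem eq_L (f : X → X) (hf : ∀ v w, f (v + w) = f v + f w) (v : X) :
    f v = L (f (1,0,0)) (f (0,1,0)) (f (0,0,1)) v := by
  have f0 : f 0 = 0 := by
    have := hf 0 0
    rw [add_zero] at this
    exact left_eq_add.1 this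
  have fs : ∀ (i : ZMod 2) (p : X), f (i • p) = i • f p := fun i p => by
    rcases zmod_cases i with rfl | rfl
    · rw [zero_smul, zero_smul, f0]
    · rw [one_smul, one_smul]
  have : v = v.1 • ((1,0,0) : X) + v.2.1 • ((0,1,0) : X) + v.2.2 • ((0,0,1) : X) := by
    revert v; decide
  conv_lhs => rw [this]
  rw [hf, hf, fs, fs, fs, L]

theorem third_cases : ∀ p1 p2 p3 p : X, (∀ v, L p1 p2 p3 v = 0 → v = 0) →
    (∀ v, L p1 p2 p v = 0 → v = 0) →
    p3 = p ∨ p3 = p + p1 ∨ p3 = p + p2 ∨ p3 = p + p1 + p2 := by decide +kernel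

theorem L_T1 : ∀ p1 p2 p v : X, L p1 p2 p (mT1 v) = L p1 p2 (p + p1) v := by decide +kernel

theorem L_T2 : ∀ p1 p2 p v : X, L p1 p2 p (mT2 v) = L p1 p2 (p + p2) v := by decide +kernel

theorem conj_G : ∀ p : X, (∀ v, L (1,0,0) p (0,1,0) v = 0 → v = 0) →
    ∀ w, ∃ v, L (1,0,0) p (0,1,0) v = w ∧ L (1,0,0) p (0,1,0) (mG v) = mT1 w := by decide

theorem conj_Y : ∀ w, ∃ v, mY v = w ∧ mY (mT1 v) = mT2 w := by decide

theorem D2.core [Finite G] (h : D2 G)
    (h2 : ∀ v w : G, IsInv v → IsInv w → v ≠ w → IsPGroup 2 (fix2 v w)) : False := by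
  classical
  obtain ⟨t, c, a, hc, ha2, tc, ta, ht⟩ := h.transvection h2
  have ha : IsInv a := ⟨fun e => hc.1 (by
    rw [e] at ta
    simpa using ta.symm), ha2⟩
  have hca : c ≠ a := fun e => hc.1 (by
    rw [← e, tc] at ta
    exact left_eq_mul.1 ta)
  have cm : a * c = c * a := h.comm _ _ ha.2 hc.2
  obtain ⟨k, k1, k2⟩ := h.tr c a a c hc ha hca ha hc hca.symm
  obtain ⟨s, sa, sc, hs⟩ : ∃ s : G, s * a * s⁻¹ = a ∧ s * c * s⁻¹ = c * a ∧
      ∀ v : G, v * v = 1 → s * v * s⁻¹ = v ∨ s * v * s⁻¹ = v * a := by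
    refine ⟨k * t * k⁻¹, ?_, ?_, fun v hv => ?_⟩
    · rw [← k1]
      calc _ = k * (t * c * t⁻¹) * k⁻¹ := by group
        _ = _ := by rw [tc]
    · calc _ = k * t * k⁻¹ * (k * a * k⁻¹) * (k * t * k⁻¹)⁻¹ := by rw [k2]
        _ = k * (t * a * t⁻¹) * k⁻¹ := by group
        _ = _ := by rw [ta, conj_mul', k1, k2]
    · have e : k * t * k⁻¹ * v * (k * t * k⁻¹)⁻¹ = k * (t * (k⁻¹ * v * k⁻¹⁻¹) * t⁻¹) * k⁻¹ := by
        group
      rcases ht _ ((om_normal h.comm).conj_mem _ hv k⁻¹) with e1 | e1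
      · left; rw [e, e1]; group
      · right; rw [e, e1, conj_mul', k1]; group
  have uniq : ∀ v w : G, IsInv v → IsInv w → t * v * t⁻¹ = v → s * v * s⁻¹ = v →
      t * w * t⁻¹ = w → s * w * s⁻¹ = w → v = w := by
    intro v w hv hw h3 h4 h5 h6
    by_contra hne
    obtain ⟨n, hn⟩ := pow_of_mem (h2 v w hv hw hne)
      ((fix2 v w).mul_mem (x := t) (y := s) ⟨h3, h5⟩ ⟨h4, h6⟩)
    have r1 : t * s * c * (t * s)⁻¹ = a := by
      rw [conj_mul'', sc, conj_mul', tc, ta, cm, ← mul_assoc, hc.2, one_mul]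
    have r2 : t * s * a * (t * s)⁻¹ = a * c := by rw [conj_mul'', sa, ta]
    have r3 : t * s * (a * c) * (t * s)⁻¹ = c := by
      rw [conj_mul', r1, r2, mul_assoc, ← cm, ← mul_assoc, ha.2, one_mul]
    generalize t * s = x at hn r1 r2 r3
    have hx : x ^ 3 ∈ fix2 c c := by
      rw [show x ^ 3 = x * x * x by rw [pow_succ, pow_two]]
      exact ⟨by rw [conj_mul'', conj_mul'', r1, r2, r3], by rw [conj_mul'', conj_mul'', r1, r2, r3]⟩
    have h7 := ((fix2 c c).pow_mem hx (2 ^ n / 3)).1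
    have h8 : ¬ 3 ∣ 2 ^ n := fun h3 => absurd (Nat.prime_three.dvd_of_dvd_pow h3) (by decide)
    have h9 : x ^ 2 ^ n * c * (x ^ 2 ^ n)⁻¹ = c := by rw [hn]; group
    rw [← Nat.mod_add_div (2 ^ n) 3, pow_add, pow_mul, conj_mul'', h7] at h9
    rcases (show 2 ^ n % 3 = 1 ∨ 2 ^ n % 3 = 2 by omega) with e | e
    · rw [e, pow_one, r1] at h9
      exact hca h9.symm
    · rw [e, pow_two, conj_mul'', r1, r2] at h9
      exact ha.1 (mul_eq_right.1 h9)
  obtain ⟨y, g, u, y1, y2, g1, g2, hyg, hu, yu, gu, -⟩ := h.pair h2 hc ha hca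
  have hcam := hc.mul h.comm ha hca
  have uc : u ≠ c := fun e => hca (by rw [← y1, ← e, yu])
  have ua : u ≠ a := fun e => hc.1 (by
    rw [e, y2] at yu
    exact mul_eq_right.1 yu)
  have uca : u ≠ c * a := fun e => ha.1 (by
    rw [e, conj_mul', y1, y2, ← mul_assoc, cm, mul_assoc, ha.2, mul_one] at yu
    exact left_eq_mul.1 yu)
  let ι : X → G := fun v => pw c v.1 * pw a v.2.1 * pw u v.2.2
  have V := om h.comm
  have hιa : ∀ v w, ι (v + w) = ι v * ι w := fun v w => by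
    have c1 : ∀ (x z : G) (hx : x * x = 1) (hz : z * z = 1) (i j : ZMod 2),
        Commute (pw x i) (pw z j) := fun x z hx hz i j => h.comm _ _ (pw_sq hx i) (pw_sq hz j)
    simp only [ι, Prod.fst_add, Prod.snd_add, pw_add hc.2, pw_add ha.2, pw_add hu.2]
    rw [(c1 _ _ hc.2 ha.2 _ _).mul_mul_mul_comm,
      ((c1 _ _ hc.2 hu.2 _ _).mul_left (c1 _ _ ha.2 hu.2 _ _)).mul_mul_mul_comm]
  have ι0 : ι 0 = 1 := by simp [ι, pw_zero]
  have ι2 : ∀ v, ι v * ι v = 1 := fun v => by rw [← hιa, X_add_self, ι0]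
  have ι1 : ι (1,0,0) = c := by simp [ι, pw_zero, pw_one]
  have ι1' : ι (0,1,0) = a := by simp [ι, pw_zero, pw_one]
  have ι1'' : ι (0,0,1) = u := by simp [ι, pw_zero, pw_one]
  have ι3 : ι (1,1,0) = c * a := by simp [ι, pw_zero, pw_one]
  have hιi : ∀ v, ι v = 1 → v = 0 := by
    rintro ⟨i, j, l⟩ e
    have q : ∀ {x z : G}, x * x = 1 → x * z = 1 → z = x := fun hx e =>
      (inv_eq_of_mul_eq_one_right e).symm.trans (inv_eq_of_sq hx)
    rcases zmod_cases i with rfl | rfl <;> rcases zmod_cases j with rfl | rfl <;>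
      rcases zmod_cases l with rfl | rfl <;> simp only [ι, pw_zero, pw_one, one_mul, mul_one] at e
    · rfl
    · exact absurd e hu.1
    · exact absurd e ha.1
    · exact absurd (q ha.2 e) ua
    · exact absurd e hc.1
    · exact absurd (q hc.2 e) uc
    · exact absurd e hcam.1
    · exact absurd (q hcam.2 e) uca
  have ιinj : ∀ v w, ι v = ι w → v = w := fun v w h => by
    have := hιi (v + w) (by rw [hιa, h, ι2])
    linear_combination (norm := abel) this - X_add_self w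
  have dec : ∀ v : G, v * v = 1 → ∃ e : X, e.2.2 = 0 ∧ t * (v * ι e) * t⁻¹ = v * ι e ∧
      s * (v * ι e) * s⁻¹ = v * ι e := by
    intro v hv
    rcases ht v hv with e1 | e1 <;> rcases hs v hv with e2 | e2
    · exact ⟨0, rfl, by rw [ι0, mul_one, e1], by rw [ι0, mul_one, e2]⟩
    · exact ⟨(1,0,0), rfl, by rw [ι1, conj_mul', e1, tc], by
        rw [ι1, conj_mul', e2, sc, mul_assoc, ← cm, ← mul_assoc a, ha.2, one_mul]⟩
    · exact ⟨(0,1,0), rfl, by
        rw [ι1', conj_mul', e1, ta, mul_assoc, cm, ← mul_assoc c, hc.2, one_mul], by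
        rw [ι1', conj_mul', e2, sa]⟩
    · exact ⟨(1,1,0), rfl, by
        rw [ι3, conj_mul', conj_mul', e1, ta, tc, mul_assoc, ← mul_assoc c, hc.2, one_mul, cm], by
        rw [ι3, conj_mul', conj_mul', e2, sa, sc, mul_assoc, mul_assoc c, ha.2, mul_one, cm]⟩
  have hΩ : ∀ v : G, v * v = 1 → ∃ w, v = ι w := by
    intro v hv
    obtain ⟨e0, h3, h4, h5⟩ := dec u hu.2
    obtain ⟨e, -, h6, h7⟩ := dec v hv
    have h8 : v = v * ι e * ι e := by rw [mul_assoc, ι2, mul_one]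
    by_cases h9 : v * ι e = 1
    · exact ⟨e, by rw [h8, h9, one_mul]⟩
    rw [← ι1'', ← hιa] at h4 h5
    have := uniq _ _ ⟨h9, (om h.comm).mul_mem hv (ι2 e)⟩ ⟨fun e1 => by
      have := congrArg (fun v : X => v.2.2) (hιi _ e1)
      simp only [Prod.snd_add, h3] at this
      exact absurd this (by decide), ι2 _⟩ h6 h7 h4 h5
    exact ⟨_, by rw [h8, this, ← hιa]⟩
  let φ : G → X → X := fun g v => Function.invFun ι (g * ι v * g⁻¹)
  have hιg : ∀ g v, g * ι v * g⁻¹ = ι (φ g v) := fun g v => by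
    obtain ⟨w, hw⟩ := hΩ _ ((om_normal h.comm).conj_mem _ (ι2 v) g)
    exact (Function.invFun_eq ⟨w, hw.symm⟩).symm
  have φmul : ∀ g h v, φ (g * h) v = φ g (φ h v) := fun g h v => ιinj _ _ (by
    rw [← hιg, ← hιg, ← hιg, conj_mul''])
  have φadd : ∀ g v w, φ g (v + w) = φ g v + φ g w := fun g v w => ιinj _ _ (by
    rw [hιa, ← hιg, ← hιg, ← hιg, hιa, conj_mul'])
  have φinj : ∀ g v, φ g v = 0 → v = 0 := fun g v e => hιi _ (by
    have := hιg g v
    rw [e, ι0] at this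
    simpa using this)
  have φL : ∀ g p1 p2 p3, g * c * g⁻¹ = ι p1 → g * a * g⁻¹ = ι p2 → g * u * g⁻¹ = ι p3 →
      ∀ v, φ g v = L p1 p2 p3 v := fun g p1 p2 p3 e1 e2 e3 v => by
    rw [eq_L _ (φadd g), ιinj (φ g (1,0,0)) p1 (by rw [← hιg, ι1, e1]),
      ιinj (φ g (0,1,0)) p2 (by rw [← hιg, ι1', e2]), ιinj (φ g (0,0,1)) p3 (by rw [← hιg, ι1'', e3])]
  have hy : ∀ v, φ y v = mY v := φL y _ _ _ (by rw [y1, ι1']) (by rw [y2, ι3]) (by rw [yu, ι1''])
  have hg : ∀ v, φ g v = mG v := φL g _ _ _ (by rw [g1, ι1]) (by rw [g2, ι3]) (by rw [gu, ι1''])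
  obtain ⟨t1, ht1⟩ : ∃ t1 : G, ∀ v, φ t1 v = mT1 v := by
    obtain ⟨l, l1, l2⟩ := h.tr c u c a hc hu uc.symm hc ha hca
    have hl := φL l (1,0,0) (φ l (0,1,0)) (0,1,0) (by rw [l1, ι1]) (by rw [← hιg, ι1'])
      (by rw [l2, ι1'])
    refine ⟨l * g * l⁻¹, fun w => ?_⟩
    obtain ⟨v, h3, h4⟩ := conj_G _ (fun v e => φinj l v (by rw [hl, e])) w
    rw [← h4, ← h3, ← hl, ← hl, ← hg, ← φmul, ← φmul, inv_mul_cancel_right]
  obtain ⟨t2, ht2⟩ : ∃ t2 : G, ∀ v, φ t2 v = mT2 v := by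
    refine ⟨y * t1 * y⁻¹, fun w => ?_⟩
    obtain ⟨v, h3, h4⟩ := conj_Y w
    rw [← h4, ← h3, ← hy, ← hy, ← ht1, ← φmul, ← φmul, inv_mul_cancel_right]
  have hφ : Act G φ := by
    refine ⟨φmul, fun v => ιinj _ _ (by rw [← hιg]; group), φadd, fun p1 p2 p3 hp => ?_⟩
    have n1 : p1 ≠ 0 := fun e => absurd (hp (1,0,0) (by simp [L, e])) (by decide)
    have n2 : p2 ≠ 0 := fun e => absurd (hp (0,1,0) (by simp [L, e])) (by decide)
    have n3 : p1 ≠ p2 := fun e => absurd (hp (1,1,0) (by simp [L, e, X_add_self])) (by decide)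
    obtain ⟨l, l1, l2⟩ := h.tr c a (ι p1) (ι p2) hc ha hca ⟨fun e => n1 (hιi _ e), ι2 _⟩
      ⟨fun e => n2 (hιi _ e), ι2 _⟩ (fun e => n3 (ιinj _ _ e))
    have hl := φL l p1 p2 (φ l (0,0,1)) l1 l2 (by rw [← hιg, ι1''])
    rcases third_cases _ _ _ _ hp (fun v e => φinj l v (by rw [hl, e])) with e | e | e | e
    · exact ⟨l, fun v => by rw [hl, e]⟩
    · exact ⟨l * t1, fun v => by rw [φmul, hl, ht1, L_T1, e]⟩
    · exact ⟨l * t2, fun v => by rw [φmul, hl, ht2, L_T2, e]⟩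
    · exact ⟨l * t1 * t2, fun v => by rw [φmul, φmul, hl, ht1, ht2, L_T1, L_T2, e]⟩
  refine endgame hφ ι hιa hιi hΩ hιg ((h2 c a hc ha hca).to_le fun z hz => ⟨?_, ?_⟩) hy hg hyg
  · rw [← ι1, hιg, hz]
  · rw [← ι1', hιg, hz]

theorem not_d2 (G : Type u) [Group G] [Finite G] : ¬ D2 G :=
  d2_reduce (fun _ _ _ h h2 => h.core h2) G

end H88.Pyr
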