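import Mathlib
import Cfsg.Agent.Lib.Pyr.Two1
import Cfsg.Agent.Lib.SL2Elt.Basic

/-!
# The affine special linear group in dimension two over a field of odd order
-/

set_option autoImplicit false
set_option linter.unusedSectionVars false
set_option linter.unusedVariables false
set_option linter.style.haveILetI false

namespace H88.Pyr

open scoped MatrixGroups Matrix

/-- the affine group `F² ⋊ SL₂(F)` -/
@[ext] structure Aff (F : Type) [Field F] where
  v : Fin 2 → F
  g : SL(2, F)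

variable {F : Type} [Field F]

instance : Mul (Aff F) := ⟨fun a b => ⟨a.v + a.g.1 *ᵥ b.v, a.g * b.g⟩⟩
instance : One (Aff F) := ⟨⟨0, 1⟩⟩
instance : Inv (Aff F) := ⟨fun a => ⟨-((a.g⁻¹).1 *ᵥ a.v), a.g⁻¹⟩⟩

theorem Aff.mul_v (a b : Aff F) : (a * b).v = a.v + a.g.1 *ᵥ b.v := rfl
theorem Aff.mul_g (a b : Aff F) : (a * b).g = a.g * b.g := rfl
theorem Aff.one_v : (1 : Aff F).v = 0 := rfl
theorem Aff.one_g : (1 : Aff F).g = 1 := rfl

instance : Group (Aff F) := Group.ofLeftAxioms
  (fun a b c => Aff.ext (by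
    simp only [Aff.mul_v, Aff.mul_g, Matrix.SpecialLinearGroup.coe_mul, Matrix.mulVec_add,
      Matrix.mulVec_mulVec, add_assoc]) (mul_assoc _ _ _))
  (fun a => Aff.ext (by simp [Aff.mul_v, Aff.one_v, Aff.one_g]) (one_mul _))
  (fun a => Aff.ext (neg_add_cancel _) (inv_mul_cancel _))

instance [Finite F] : Finite (Aff F) :=
  Finite.of_injective (fun a : Aff F => (a.v, a.g)) fun _ _ h =>
    Aff.ext (congrArg Prod.fst h) (congrArg Prod.snd h)

theorem Aff.isInv_iff (h2 : (2 : F) ≠ 0) (a : Aff F) : IsInv a ↔ a.g = -1 := by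
  constructor
  · rintro ⟨h1, h⟩
    rcases H64.SL2.mem_center_iff'.1 (H64.SL2.mem_center_of_mul_self_eq_one h2
      (congrArg Aff.g h)) with e | e
    · exfalso
      have h3 := congrArg Aff.v h
      rw [Aff.mul_v, e, Matrix.SpecialLinearGroup.coe_one, Matrix.one_mulVec, ← two_smul F,
        Aff.one_v] at h3
      exact h1 (Aff.ext ((smul_eq_zero.1 h3).resolve_left h2) e)
    · exact e
  · intro h
    refine ⟨fun e => ?_, Aff.ext ?_ ?_⟩
    · rw [e, Aff.one_g] at h
      have := congrFun (congrFun (congrArg Subtype.val h) 0) 0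
      simp only [Matrix.SpecialLinearGroup.coe_one, Matrix.one_apply_eq,
        Matrix.SpecialLinearGroup.coe_neg, Matrix.neg_apply] at this
      exact h2 (by linear_combination this)
    · rw [Aff.mul_v, h, Aff.one_v]
      simp [Matrix.neg_mulVec]
    · rw [Aff.mul_g, h, Aff.one_g]
      simp

theorem Aff.card_inv (h2 : (2 : F) ≠ 0) : Nat.card {a : Aff F // IsInv a} = Nat.card F ^ 2 := by
  rw [Nat.card_congr (β := Fin 2 → F)
    { toFun := fun a => a.1.v
      invFun := fun v => ⟨⟨v, -1⟩, (Aff.isInv_iff h2 _).2 rfl⟩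
      left_inv := fun a => Subtype.ext (Aff.ext rfl ((Aff.isInv_iff h2 _).1 a.2).symm)
      right_inv := fun _ => rfl }, Nat.card_fun, Nat.card_eq_fintype_card (α := Fin 2),
    Fintype.card_fin]

theorem Aff.conj_inv (h2 : (2 : F) ≠ 0) (a b : Aff F) (ha : IsInv a) (hb : IsInv b) :
    ∃ g : Aff F, g * a * g⁻¹ = b := by
  rw [Aff.isInv_iff h2] at ha hb
  refine ⟨⟨(2 : F)⁻¹ • (b.v - a.v), 1⟩, mul_inv_eq_iff_eq_mul.2 (Aff.ext ?_ ?_)⟩
  · rw [Aff.mul_v, Aff.mul_v, hb]
    simp only [Matrix.SpecialLinearGroup.coe_one, Matrix.one_mulVec,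
      Matrix.SpecialLinearGroup.coe_neg, Matrix.neg_mulVec]
    ext i
    simp only [Pi.add_apply, Pi.smul_apply, Pi.sub_apply, Pi.neg_apply, smul_eq_mul]
    field_simp
    ring
  · rw [Aff.mul_g, Aff.mul_g, ha, hb, one_mul, mul_one]

theorem Aff.not_solvable [Finite F] (h : 3 < Nat.card F) : ¬ Group.IsSolvable (Aff F) := by
  intro hs
  let f : Aff F →* SL(2, F) := MonoidHom.mk' Aff.g fun _ _ => rfl
  haveI : Group.IsSolvable SL(2, F) :=
    Group.isSolvable_of_surjective (f := f) fun g => ⟨⟨0, g⟩, rfl⟩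
  obtain ⟨a, ha, ha2⟩ : ∃ a : F, a ≠ 0 ∧ a ^ 2 ≠ 1 := by
    by_contra hc
    push Not at hc
    have h1 : (Set.univ : Set F) ⊆ {0, 1, -1} := fun a _ => by
      by_cases h0 : a = 0
      · exact Or.inl h0
      · exact Or.inr (mul_self_eq_one_iff.1 (by rw [← pow_two, hc a h0]))
    have h2 := Set.ncard_le_ncard h1
    have h3 : ({0, 1, -1} : Set F).ncard ≤ 3 :=
      (Set.ncard_insert_le _ _).trans (Nat.succ_le_succ ((Set.ncard_insert_le _ _).trans (by simp)))
    rw [Set.ncard_univ] at h2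
    omega
  haveI : Nontrivial SL(2, F) := ⟨⟨!![1, 1; 0, 1], by simp⟩, 1, fun e => by
    have := congrFun (congrFun (congrArg Subtype.val e) 0) 1
    simp at this⟩
  exact (Group.IsSolvable.commutator_lt_top_of_nontrivial SL(2, F)).ne
    (Matrix.SL2.commutator_eq_top ha ha2)

end H88.Pyr
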